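import Cfsg.Agent.H18.G2Type.Fusion

/-!
For `n ≥ 3` a simple group of this type has a single class of involutions.
-/

set_option autoImplicit false
set_option linter.style.haveILetI false
set_option linter.unusedSimpArgs false
set_option linter.unusedVariables false
set_option linter.unusedSectionVars false

namespace H18.G2Type

theorem eq_of_parity {a₁ a₂ a₃ : ZMod 2} (h : a₁ + a₃ = a₃ + a₂) : a₁ = a₂ := by
  revert h
  revert a₁ a₂ a₃
  decide

namespace Frame

variable {n : ℕ} {G : Type*} [Group G] {S : Subgroup G} (D : Frame S n)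

/-- The automorphism exchanging the two swaps. -/
def twist : Frame S n where
  el t u v := D.el (t.1, -t.2) (xor u v) v
  two := D.two
  mul t u v t' u' v' := by
    rw [D.mul]
    congr 1
    · cases u <;> cases v <;> simp [act, add_comm]
    · cases u <;> cases v <;> cases u' <;> cases v' <;> rfl
  inj t u v t' u' v' e := by
    obtain ⟨h, h', rfl⟩ := D.inj _ _ _ _ _ _ e
    have h1 := congrArg Prod.fst h
    have h2 := congrArg Prod.snd h
    exact ⟨Prod.ext h1 (neg_inj.1 h2), by cases u <;> cases u' <;> cases v <;> simp_all, rfl⟩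
  mem x := by
    rw [D.mem]
    constructor
    · rintro ⟨t, u, v, rfl⟩
      refine ⟨(t.1, -t.2), xor u v, v, ?_⟩
      cases u <;> cases v <;> simp
    · rintro ⟨t, u, v, rfl⟩
      exact ⟨_, _, _, rfl⟩

theorem twist_zz : D.twist.zz = D.zz := by simp [twist, zz, neg_half D.nz]

theorem twist_pp : D.twist.pp = D.pp := by simp [twist, pp]

theorem twist_ss : D.twist.ss = D.el 0 true true := by simp [twist, ss, show ((0 : ZMod (2 ^ n)), (0 : ZMod (2 ^ n))) = (0 : A n) from rfl]

end Frame

variable {n : ℕ} {G : Type*} [Group G] [Finite G] (S : Sylow 2 G) (D : Frame (S : Subgroup G) n)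

theorem card_eq (D : Frame (S : Subgroup G) n) : Nat.card (S : Subgroup G) = 2 ^ (2 * n + 2) := by
  haveI : NeZero (2 ^ n) := ⟨by positivity⟩
  let f : A n × Bool × Bool → (S : Subgroup G) := fun x => ⟨D.el x.1 x.2.1 x.2.2, D.el_mem _ _ _⟩
  have hf : Function.Bijective f := by
    constructor
    · rintro ⟨t, u, v⟩ ⟨t', u', v'⟩ e
      obtain ⟨rfl, rfl, rfl⟩ := D.inj _ _ _ _ _ _ (congrArg Subtype.val e)
      rfl
    · rintro ⟨y, hy⟩
      obtain ⟨t, u, v, rfl⟩ := (D.mem y).1 hy
      exact ⟨(t, u, v), rfl⟩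
  rw [← Nat.card_congr (Equiv.ofBijective f hf)]
  simp [Nat.card_prod, Nat.card_eq_fintype_card, ZMod.card, pow_add, two_mul]

variable [IsSimpleGroup G] (hna : ¬ IsMulCommutative G)

include hna in
/-- A conjugate `el (c, c) i` of `z` forces the swap to be conjugate to `z`. -/
theorem ss_of_diag (hn : 3 ≤ n) (c : ZMod (2 ^ n)) (h : IsConj (D.el (c, c) true false) D.zz) :
    IsConj D.ss D.zz := by
  have hh := half_add_half D.nz
  have hh0 := half_ne_zero D.nz
  have hnh := neg_half D.nz
  obtain ⟨k, hk, hS⟩ := exists_pull S D (D.el_mem _ _ _) h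
  have hcz : D.el (c, c) true false * D.zz = D.zz * D.el (c, c) true false := D.zz_comm (D.el_mem _ _ _)
  have hcp : D.el (c, c) true false * D.pp = D.pp * D.el (c, c) true false := by
    rw [Frame.pp, D.mul, D.mul]; simp [act, hnh, add_comm]
  have hcs : D.el (c, c) true false * D.ss = D.ss * D.el (c, c) true false := by
    rw [Frame.ss, D.mul, D.mul]; simp [act]
  have hzS : D.zz ∈ (S : Subgroup G) := D.el_mem _ _ _
  have hps : D.pp * D.ss * D.pp⁻¹ * D.ss⁻¹ = D.zz := by
    rw [Frame.pp, Frame.ss, Frame.zz, D.conj_el, D.el_inv, D.mul]; simp [act, hnh]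
  have hne : D.el (c, c) true false ≠ D.zz := fun e => absurd (D.inj _ _ _ _ _ _ e).2.1 (by decide)
  -- `k z k⁻¹` is `p` or `p'`
  obtain ⟨w, -, he⟩ := D.commutator_el (hS _ (D.el_mem _ _ _) hcp) (hS _ (D.el_mem _ _ _) hcs)
  have hz : k * D.zz * k⁻¹ = D.el w false false := by rw [← he, ← hps, Frame.pp, Frame.ss]; group
  have hord : ∀ y, orderOf y = 2 → orderOf (k * y * k⁻¹) = 2 := fun y hy => by
    rw [← MulAut.conj_apply, MulEquiv.orderOf_eq, hy]
  have hw : (w = (half n, 0) ∨ w = (0, half n)) := by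
    have ho := hord _ D.orderOf_zz
    rw [hz] at ho
    rcases D.invol_cases ho with ⟨-, -, rfl | rfl | rfl⟩ | ⟨h, -⟩ | ⟨-, h, -⟩ | ⟨h, -⟩
    · exact absurd (mul_left_cancel (mul_right_cancel (hk.trans (show D.zz = k * D.zz * k⁻¹ from hz.symm)))) hne
    · exact Or.inl rfl
    · exact Or.inr rfl
    all_goals exact absurd h (by decide)
  -- elements of `S` commuting with it avoid the swap
  have hb : ∀ (t : A n) (a b : Bool), D.el w false false * D.el t a b = D.el t a b * D.el w false false →
      b = false := by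
    intro t a b e
    rw [D.mul, D.mul] at e
    have e1 := (D.inj _ _ _ _ _ _ e).1
    simp only [act, cond_false] at e1
    rw [add_comm w t] at e1
    have e2 := add_left_cancel e1
    rcases hw with rfl | rfl <;> cases a <;> cases b <;>
      simp [act, hnh, hh0, hh0.symm] at e2 ⊢
  have hzy : ∀ y, D.zz * y = y * D.zz →
      D.el w false false * (k * y * k⁻¹) = (k * y * k⁻¹) * D.el w false false := fun y hy => by
    rw [← hz]
    calc k * D.zz * k⁻¹ * (k * y * k⁻¹) = k * (D.zz * y) * k⁻¹ := by group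
      _ = k * (y * D.zz) * k⁻¹ := by rw [hy]
      _ = _ := by group
  -- images of `p` and `s`
  have himg : ∀ y, y ∈ (S : Subgroup G) → D.el (c, c) true false * y = y * D.el (c, c) true false →
      orderOf y = 2 → y ≠ D.zz → y ≠ D.el (c, c) true false → y ≠ D.zz * D.el (c, c) true false →
      ∃ t : A n, k * y * k⁻¹ = D.el t true false := by
    intro y hy hyc hy2 h1 h2 h3
    obtain ⟨t, a, b, he⟩ := (D.mem _).1 (hS y hy hyc)
    have ho := hord y hy2
    rw [← he] at ho
    have hb' : b = false := hb t a b (he ▸ hzy y (D.zz_comm hy).symm)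
    subst hb'
    rcases D.invol_cases ho with ⟨rfl, -, hT⟩ | ⟨rfl, -⟩ | ⟨-, h, -⟩ | ⟨-, h, -⟩
    · exfalso
      have hinj : ∀ y', k * y' * k⁻¹ = D.el t false false → y = y' := fun y' e =>
        mul_left_cancel (mul_right_cancel (he.symm.trans e.symm))
      have hzc : k * (D.zz * D.el (c, c) true false) * k⁻¹ = D.el w false false * D.zz :=
        calc k * (D.zz * D.el (c, c) true false) * k⁻¹
            = (k * D.zz * k⁻¹) * (k * D.el (c, c) true false * k⁻¹) := by group
          _ = _ := by rw [hz, hk]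
      rcases hT with rfl | rfl | rfl
      · exact h2 (hinj _ hk)
      all_goals
        rcases hw with rfl | rfl <;>
          first
            | exact h1 (hinj _ hz)
            | (refine h3 (hinj _ (hzc.trans ?_)); rw [Frame.zz, D.mul]; simp [act, hh, hh0])
    · exact ⟨t, he.symm⟩
    all_goals exact absurd h (by decide)
  obtain ⟨t₁, h₁⟩ := himg D.pp (D.el_mem _ _ _) hcp D.orderOf_pp
    (fun e => hh0 (congrArg Prod.snd (D.inj _ _ _ _ _ _ e).1).symm)
    (fun e => absurd (D.inj _ _ _ _ _ _ e).2.1 (by decide))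
    (fun e => by
      rw [Frame.zz, D.mul] at e
      exact absurd (D.inj _ _ _ _ _ _ e).2.1 (by decide))
  obtain ⟨t₂, h₂⟩ := himg D.ss (D.el_mem _ _ _) hcs
    (D.orderOf_el _ _ _ (by simp) (by simp))
    (fun e => absurd (D.inj _ _ _ _ _ _ e).2.2 (by decide))
    (fun e => absurd (D.inj _ _ _ _ _ _ e).2.2 (by decide))
    (fun e => by
      rw [Frame.zz, D.mul] at e
      exact absurd (D.inj _ _ _ _ _ _ e).2.2 (by decide))
  -- their product has order dividing four
  have h4 : (D.el t₁ true false * D.el t₂ true false) ^ 4 = 1 := by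
    rw [← h₁, ← h₂, show k * D.pp * k⁻¹ * (k * D.ss * k⁻¹) = MulAut.conj k (D.pp * D.ss) by
      rw [MulAut.conj_apply]; group, ← map_pow, show (4 : ℕ) = 2 * 2 by norm_num, pow_mul,
      Frame.pp, Frame.ss, D.mul, D.sq_el, D.sq_el]
    simp [act, hh, show (((0 : ZMod (2 ^ n)), (0 : ZMod (2 ^ n))) : A n) = 0 from rfl, D.el_one]
  rw [D.mul, show (4 : ℕ) = 2 * 2 by norm_num, pow_mul, D.sq_el, D.sq_el, ← D.el_one] at h4
  have e4 := (D.inj _ _ _ _ _ _ h4).1
  simp only [act, cond_true, cond_false, Bool.xor_self] at e4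
  have hpar : ∀ x y : ZMod (2 ^ n), (x + -y + (x + -y)) + (x + -y + (x + -y)) = 0 →
      par D.nz x = par D.nz y := fun x y e => by
    have := par_zero_of_four hn e
    rw [← sub_eq_add_neg, map_sub, sub_eq_zero] at this
    exact this
  have hp2 : IsConj (D.el t₁ true false) (D.el t₂ true false) :=
    D.isConj_i (hpar _ _ (congrArg Prod.fst e4)) (hpar _ _ (congrArg Prod.snd e4))
  rw [← h₁, ← h₂] at hp2
  exact ((isConj_iff.2 ⟨k, rfl⟩ : IsConj D.ss (k * D.ss * k⁻¹)).trans
    (hp2.symm.trans (isConj_iff.2 ⟨k, rfl⟩ : IsConj D.pp (k * D.pp * k⁻¹)).symm)).trans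
    (pp_isConj_zz S D hna)

include hna in
theorem two_classes {x : G} (hx : orderOf x = 2) : IsConj x D.zz ∨ IsConj x D.ss := by
  rcases trichotomy S D hna hx with h | h | h
  · exact Or.inl h
  · exact Or.inl (h.trans (pp_isConj_zz S D hna))
  · exact Or.inr h

include hna in
theorem ss_isConj_zz (hn : 3 ≤ n) : IsConj D.ss D.zz := by
  haveI : Fact (Nat.Prime 2) := ⟨Nat.prime_two⟩
  haveI : NeZero (2 ^ n) := ⟨by positivity⟩
  by_contra hs
  have hh := half_add_half D.nz
  have hnh := neg_half D.nz
  have hh0 := half_ne_zero D.nz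
  have hdiag : ∀ c : ZMod (2 ^ n), ¬ IsConj (D.el (c, c) true false) D.zz :=
    fun c h => hs (ss_of_diag S D hna hn c h)
  have hi2 : orderOf (D.el 0 true false) = 2 := D.orderOf_el _ _ _ (by simp) (by simp)
  have his : IsConj (D.el 0 true false) D.ss :=
    (two_classes S D hna hi2).resolve_left (hdiag 0)
  -- the centraliser of `i` goes into the centraliser in `S` of a conjugate outside `T⟨i⟩`
  set C := Subgroup.centralizer ({D.el (0 : A n) true false} : Set G) with hC
  set R := (S : Subgroup G) ⊓ C with hR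
  obtain ⟨P, hP⟩ := (IsPGroup.of_equiv (S.2.to_le (inf_le_left : R ≤ _))
    (Subgroup.subgroupOfEquivOfLe (inf_le_right : R ≤ C)).symm).exists_le_sylow
  obtain ⟨S', hS'⟩ := (P.2.map C.subtype).exists_le_sylow
  obtain ⟨g, hg⟩ := MulAction.exists_smul_eq G S' S
  have gmem : ∀ y : C, y ∈ (P : Subgroup C) → g * (y : G) * g⁻¹ ∈ (S : Subgroup G) := fun y hy => by
    rw [← hg]
    exact Subgroup.smul_mem_pointwise_smul _ (MulAut.conj g) _ (hS' ⟨y, hy, rfl⟩)
  set y := g * D.el 0 true false * g⁻¹ with hy
  have hRmem : ∀ r ∈ R, g * r * g⁻¹ ∈ (S : Subgroup G) := fun r hr =>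
    gmem ⟨r, hr.2⟩ (hP (show (⟨r, hr.2⟩ : C) ∈ R.subgroupOf C from hr))
  have hiR : D.el (0 : A n) true false ∈ R :=
    ⟨D.el_mem _ _ _, Subgroup.mem_centralizer_singleton_iff.2 rfl⟩
  obtain ⟨t, a, b, hyt⟩ := (D.mem y).1 (hRmem _ hiR)
  have hyo : orderOf (D.el t a b) = 2 := by
    rw [hyt, hy, ← MulAut.conj_apply, MulEquiv.orderOf_eq, hi2]
  have hiy : IsConj (D.el (0 : A n) true false) y := isConj_iff.2 ⟨g, rfl⟩
  -- size of a Sylow subgroup of `C`
  obtain ⟨g₀, hg₀⟩ := isConj_iff.1 his.symm
  let Rs : Subgroup G := (S : Subgroup G) ⊓ Subgroup.centralizer ({D.ss} : Set G)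
  have hRsC : Rs.map (MulAut.conj g₀).toMonoidHom ≤ C := by
    rintro _ ⟨r, hr, rfl⟩
    have hc := Subgroup.mem_centralizer_singleton_iff.1 hr.2
    rw [hC, Subgroup.mem_centralizer_singleton_iff, ← hg₀]
    simp only [MulEquiv.coe_toMonoidHom, MulAut.conj_apply]
    calc g₀ * r * g₀⁻¹ * (g₀ * D.ss * g₀⁻¹) = g₀ * (r * D.ss) * g₀⁻¹ := by group
      _ = g₀ * (D.ss * r) * g₀⁻¹ := by rw [hc]
      _ = _ := by group
  have hcardP : 32 ≤ Nat.card P := by
    obtain ⟨P', hP'⟩ := (IsPGroup.of_equiv ((S.2.to_le (inf_le_left : Rs ≤ _)).map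
      (MulAut.conj g₀).toMonoidHom) (Subgroup.subgroupOfEquivOfLe hRsC).symm).exists_le_sylow
    rw [P.card_eq_multiplicity, ← P'.card_eq_multiplicity]
    refine le_trans ?_ (Subgroup.card_le_of_le hP')
    rw [Nat.card_congr (Subgroup.subgroupOfEquivOfLe hRsC).toEquiv,
      Subgroup.card_map_of_injective (MulAut.conj g₀).injective]
    let f : ZMod (2 ^ n) × Bool × Bool → Rs := fun x => ⟨D.el (x.1, x.1) x.2.1 x.2.2, D.el_mem _ _ _,
      Subgroup.mem_centralizer_singleton_iff.2 (by
        obtain ⟨e, u, v⟩ := x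
        rw [Frame.ss, D.mul, D.mul]
        cases u <;> cases v <;> simp [act])⟩
    have hf : Function.Injective f := by
      rintro ⟨e, u, v⟩ ⟨e', u', v'⟩ he
      obtain ⟨h, rfl, rfl⟩ := D.inj _ _ _ _ _ _ (congrArg Subtype.val he)
      simpa using h
    refine le_trans ?_ (Nat.card_le_card_of_injective f hf)
    simp only [Nat.card_prod, Nat.card_zmod, Nat.card_eq_fintype_card (α := Bool), Fintype.card_bool]
    calc 32 = 2 ^ 3 * (2 * 2) := by norm_num
      _ ≤ 2 ^ n * (2 * 2) := Nat.mul_le_mul_right _ (Nat.pow_le_pow_right (by norm_num) hn)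
  have hPy : ∀ p : C, p ∈ (P : Subgroup C) → (g * (p : G) * g⁻¹) * y = y * (g * (p : G) * g⁻¹) := by
    intro p _
    have hc := Subgroup.mem_centralizer_singleton_iff.1 p.2
    rw [hy]
    calc g * (p : G) * g⁻¹ * (g * D.el 0 true false * g⁻¹) = g * ((p : G) * D.el 0 true false) * g⁻¹ := by
          group
      _ = g * (D.el 0 true false * p) * g⁻¹ := by rw [hc]
      _ = _ := by group
  -- `y` involves the swap
  have hb : b = true := by
    rcases D.invol_cases hyo with ⟨rfl, rfl, hT⟩ | ⟨rfl, rfl⟩ | ⟨-, h, -⟩ | ⟨-, h, -⟩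
    · exfalso
      apply hdiag 0
      refine (show IsConj (D.el (0 : A n) true false) D.zz from ?_)
      have h0 : IsConj (D.el (0 : A n) true false) (D.el t false false) := hyt ▸ hiy
      rcases hT with rfl | rfl | rfl
      · exact h0
      · exact h0.trans (pp_isConj_zz S D hna)
      · exact (h0.trans D.isConj_pp.symm).trans (pp_isConj_zz S D hna)
    · exfalso
      -- at most sixteen elements of `S` commute with `y`
      let Sy : Set G := {x | x ∈ (S : Subgroup G) ∧ x * y = y * x}
      have h16 : Nat.card Sy ≤ 16 := by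
        let pick : Bool × Bool → A n := fun uv =>
          Classical.epsilon (fun x : A n => D.el x uv.1 uv.2 ∈ Sy)
        let W := {d : A n // d + d = 0}
        let f : W × Bool × Bool → G := fun w => D.el (pick (w.2.1, w.2.2) + w.1) w.2.1 w.2.2
        have hWcard : Nat.card W ≤ 4 := by
          let F : Bool × Bool → W := fun e =>
            ⟨(bif e.1 then half n else 0, bif e.2 then half n else 0), by
              rcases e with ⟨e1, e2⟩; cases e1 <;> cases e2 <;> simp [hh]⟩
          have hF : Function.Surjective F := by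
            rintro ⟨⟨d1, d2⟩, hd⟩
            rcases eq_zero_or_half D.nz (congrArg Prod.fst hd) with e1 | e1 <;>
              rcases eq_zero_or_half D.nz (congrArg Prod.snd hd) with e2 | e2 <;>
                simp only at e1 e2 <;> subst e1 e2
            · exact ⟨(false, false), rfl⟩
            · exact ⟨(false, true), rfl⟩
            · exact ⟨(true, false), rfl⟩
            · exact ⟨(true, true), rfl⟩
          exact le_trans (Nat.card_le_card_of_surjective F hF) (by simp)
        have hsub : Sy ⊆ Set.range f := by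
          rintro x ⟨hxS, hxy⟩
          obtain ⟨t', u, v, rfl⟩ := (D.mem x).1 hxS
          have hp := Classical.epsilon_spec (p := fun x : A n => D.el x u v ∈ Sy) ⟨t', hxS, hxy⟩
          refine ⟨(⟨t' - pick (u, v), ?_⟩, u, v), ?_⟩
          · obtain ⟨-, e2⟩ := hp
            simp only [← hyt, D.mul] at e2
            have e1 := hxy
            simp only [← hyt, D.mul] at e1
            have f1 := (D.inj _ _ _ _ _ _ e1).1
            have f2 := (D.inj _ _ _ _ _ _ e2).1
            simp only [act, cond_true, cond_false] at f1 f2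
            show t' - _ + (t' - _) = 0
            linear_combination (norm := abel) f1 - f2
          · show D.el (pick (u, v) + (t' - pick (u, v))) u v = D.el t' u v
            rw [add_sub_cancel]
        calc Nat.card Sy ≤ Nat.card (Set.range f) := Nat.card_mono (Set.toFinite _) hsub
          _ ≤ Nat.card (W × Bool × Bool) := Finite.card_range_le f
          _ ≤ 16 := by
            rw [Nat.card_prod, Nat.card_prod, Nat.card_eq_fintype_card (α := Bool), Fintype.card_bool]
            omega
      have : Nat.card P ≤ Nat.card Sy :=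
        Nat.card_le_card_of_injective
          (fun p => (⟨g * (p.1 : G) * g⁻¹, gmem p.1 p.2, hPy p.1 p.2⟩ : Sy)) fun p q e =>
          Subtype.ext (Subtype.ext (mul_left_cancel (mul_right_cancel (congrArg Subtype.val e))))
      omega
    · exact h
    · exact h
  subst hb
  -- so only `z` is a conjugate of `z` commuting with `y`
  have hsig : ¬ IsConj (D.el (0 : A n) true true) D.zz := by
    intro h
    have hs2 : orderOf D.ss = 2 := D.orderOf_el _ _ _ (by simp) (by simp)
    rcases trichotomy S D.twist hna hs2 with e | e | e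
    · exact hs (D.twist_zz ▸ e)
    · exact hs ((D.twist_pp ▸ e).trans (pp_isConj_zz S D hna))
    · exact hs ((D.twist_ss ▸ e).trans h)
  have honly : ∀ x ∈ (S : Subgroup G), x * y = y * x → IsConj x D.zz → x = D.zz := by
    intro x hx hxy hxz
    obtain ⟨t', u, v, rfl⟩ := (D.mem x).1 hx
    have hxo : orderOf (D.el t' u v) = 2 := by
      obtain ⟨m, hm⟩ := isConj_iff.1 hxz
      rw [← MulEquiv.orderOf_eq (MulAut.conj m), MulAut.conj_apply, hm, D.orderOf_zz]
    rw [← hyt, D.mul, D.mul] at hxy
    have f := (D.inj _ _ _ _ _ _ hxy).1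
    rcases D.invol_cases hxo with ⟨rfl, rfl, rfl | rfl | rfl⟩ | ⟨rfl, rfl⟩ | ⟨rfl, rfl, h⟩ | ⟨rfl, rfl, h⟩
    · rfl
    · exfalso
      simp only [act, cond_true, cond_false] at f
      rw [add_comm _ t] at f
      have f1 := add_left_cancel f
      cases a <;> simp [hnh, hh0, hh0.symm] at f1
    · exfalso
      simp only [act, cond_true, cond_false] at f
      rw [add_comm _ t] at f
      have f1 := add_left_cancel f
      cases a <;> simp [hnh, hh0, hh0.symm] at f1
    · exfalso
      have f1 := congrArg (fun d : A n => par D.nz d.1) f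
      refine hdiag t'.1 (IsConj.trans (D.isConj_i (t := (t'.1, t'.1)) (t' := t') rfl ?_) hxz)
      cases a <;> simp [act] at f1
      all_goals
        exact eq_of_parity f1
    · exfalso
      apply hs
      rw [show t' = (t'.1, -t'.1) from Prod.ext rfl h] at hxz
      exact (D.isConj_ss t'.1).trans hxz
    · exfalso
      have h0 : IsConj (D.el (0 : A n) true true) (D.el t' true true) := by
        refine D.isConj_el (t'.1, 0) _ _ false false _ _ ?_
        apply Prod.ext <;> simp [act, h]
      exact hsig (h0.trans hxz)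
  have hpR : ∀ d : A n, d + d = 0 → D.el d false false ∈ R := fun d hd =>
    ⟨D.el_mem _ _ _, Subgroup.mem_centralizer_singleton_iff.2 (by
      rw [D.mul, D.mul]
      simp [act, neg_eq_of_add_eq_zero_left hd])⟩
  have hone : ∀ d : A n, d + d = 0 → IsConj (D.el d false false) D.zz →
      g * D.el d false false * g⁻¹ = D.zz := fun d hd hz => by
    refine honly _ (hRmem _ (hpR d hd))
      (hPy ⟨_, (hpR d hd).2⟩ (hP (show (⟨_, (hpR d hd).2⟩ : C) ∈ R.subgroupOf C from hpR d hd)))
      ((isConj_iff.2 ⟨g, rfl⟩).symm.trans hz)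
  have e1 := hone (half n, half n) (Prod.ext hh hh) (IsConj.refl _)
  have e2 := hone (half n, 0) (Prod.ext hh (add_zero 0)) (pp_isConj_zz S D hna)
  exact hh0 (congrArg Prod.snd
    (D.inj _ _ _ _ _ _ (mul_left_cancel (mul_right_cancel (e1.trans e2.symm)))).1)

end H18.G2Type
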