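import Mathlib.Data.ZMod.Basic
import Mathlib.GroupTheory.Index
import Mathlib.GroupTheory.Sylow

/-!
Coordinates for a group `(C_{2^n} × C_{2^n}) ⋊ ⟨inversion, swap⟩`.
-/

set_option autoImplicit false
set_option linter.style.haveILetI false
set_option linter.unusedSimpArgs false

namespace H18.G2Type

/-- The coordinate module. -/
abbrev A (n : ℕ) := ZMod (2 ^ n) × ZMod (2 ^ n)

variable {n : ℕ}

/-- Inversion (`u`) and swap (`v`). -/
def act (u v : Bool) (t : A n) : A n :=
  bif u then -(bif v then t.swap else t) else (bif v then t.swap else t)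

theorem act_add (u v : Bool) (t t' : A n) : act u v (t + t') = act u v t + act u v t' := by
  cases u <;> cases v <;> simp [act, neg_add, add_comm]

theorem act_act (u v u' v' : Bool) (t : A n) :
    act u v (act u' v' t) = act (xor u u') (xor v v') t := by
  cases u <;> cases v <;> cases u' <;> cases v' <;> simp [act]

@[simp] theorem act_zero (u v : Bool) : act u v (0 : A n) = 0 := by
  cases u <;> cases v <;> simp [act]

theorem act_neg (u v : Bool) (t : A n) : act u v (-t) = -act u v t := by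
  cases u <;> cases v <;> simp [act]

/-- Reduction mod two. -/
noncomputable def par (hn : n ≠ 0) : ZMod (2 ^ n) →+* ZMod 2 :=
  ZMod.castHom (dvd_pow_self 2 hn) (ZMod 2)

theorem par_natCast (hn : n ≠ 0) (k : ℕ) : par hn (k : ZMod (2 ^ n)) = (k : ZMod 2) :=
  map_natCast _ k

theorem exists_half (hn : n ≠ 0) {c : ZMod (2 ^ n)} (h : par hn c = 0) : ∃ x, c = x + x := by
  haveI : NeZero (2 ^ n) := ⟨by positivity⟩
  rw [← ZMod.natCast_zmod_val c, par_natCast, ZMod.natCast_eq_zero_iff] at h
  obtain ⟨j, hj⟩ := h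
  refine ⟨(j : ZMod (2 ^ n)), ?_⟩
  rw [← ZMod.natCast_zmod_val c, hj, two_mul, Nat.cast_add]

theorem par_eq_of_sub (hn : n ≠ 0) {c d : ZMod (2 ^ n)} (h : par hn c = par hn d) :
    ∃ x, d = c + (x + x) := by
  obtain ⟨x, hx⟩ := exists_half hn (c := d - c) (by rw [map_sub, h, sub_self])
  exact ⟨x, by rw [← hx, add_sub_cancel]⟩

/-- The element of order two. -/
def half (n : ℕ) : ZMod (2 ^ n) := (2 ^ (n - 1) : ℕ)

theorem half_add_half (hn : n ≠ 0) : half n + half n = 0 := by
  rw [half, ← Nat.cast_add, ← two_mul, ← pow_succ', Nat.sub_add_cancel (Nat.pos_of_ne_zero hn),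
    ZMod.natCast_self]

theorem neg_half (hn : n ≠ 0) : -half n = half n := neg_eq_of_add_eq_zero_left (half_add_half hn)

theorem half_ne_zero (hn : n ≠ 0) : half n ≠ 0 := by
  rw [half, Ne, ZMod.natCast_eq_zero_iff]
  exact fun h => absurd (Nat.le_of_dvd (by positivity) h)
    (not_le.2 (Nat.pow_lt_pow_right (by norm_num) (Nat.sub_lt (Nat.pos_of_ne_zero hn) one_pos)))

theorem par_half (hn : 2 ≤ n) : par (show n ≠ 0 by omega) (half n) = 0 := by
  rw [half, par_natCast, ZMod.natCast_eq_zero_iff]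
  exact dvd_pow_self 2 (by omega)

theorem eq_zero_or_half (hn : n ≠ 0) {c : ZMod (2 ^ n)} (h : c + c = 0) : c = 0 ∨ c = half n := by
  haveI : NeZero (2 ^ n) := ⟨by positivity⟩
  have hp : 2 * 2 ^ (n - 1) = 2 ^ n := by
    rw [← pow_succ', Nat.sub_add_cancel (Nat.pos_of_ne_zero hn)]
  have h1 : 2 ^ n ∣ c.val + c.val := by
    rw [← ZMod.natCast_eq_zero_iff, Nat.cast_add, ZMod.natCast_zmod_val, h]
  obtain ⟨k, hk⟩ := h1
  have hk2 : k < 2 := by
    by_contra hc
    have h2 : 2 ^ n * 2 ≤ 2 ^ n * k := Nat.mul_le_mul_left _ (not_lt.1 hc)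
    have := c.val_lt
    omega
  rcases (show k = 0 ∨ k = 1 by omega) with rfl | rfl
  · exact Or.inl ((ZMod.val_eq_zero c).1 (by omega))
  · refine Or.inr ?_
    rw [← ZMod.natCast_zmod_val c, show c.val = 2 ^ (n - 1) by omega]
    rfl

theorem par_zero_of_four (hn : 3 ≤ n) {c : ZMod (2 ^ n)} (h : (c + c) + (c + c) = 0) :
    par (show n ≠ 0 by omega) c = 0 := by
  haveI : NeZero (2 ^ n) := ⟨by positivity⟩
  have h1 : 2 ^ n ∣ 4 * c.val := by
    rw [← ZMod.natCast_eq_zero_iff, Nat.cast_mul, ZMod.natCast_zmod_val, Nat.cast_ofNat]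
    rw [← h]; ring
  rw [← ZMod.natCast_zmod_val c, par_natCast, ZMod.natCast_eq_zero_iff]
  have hp : 4 * 2 ^ (n - 2) = 2 ^ n := by
    rw [show (4 : ℕ) = 2 ^ 2 by norm_num, ← pow_add]; congr 1; omega
  generalize c.val = v at h1 ⊢
  rw [← hp, Nat.mul_dvd_mul_iff_left (by norm_num)] at h1
  exact (dvd_pow_self 2 (by omega)).trans h1

/-- The sum of the parities. -/
noncomputable def phi (hn : n ≠ 0) (t : A n) : ZMod 2 := par hn t.1 + par hn t.2

theorem phi_add (hn : n ≠ 0) (t t' : A n) : phi hn (t + t') = phi hn t + phi hn t' := by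
  simp [phi]; abel

theorem phi_act (hn : n ≠ 0) (u v : Bool) (t : A n) : phi hn (act u v t) = phi hn t := by
  cases u <;> cases v <;> simp [act, phi, add_comm]

theorem phi_neg (hn : n ≠ 0) (t : A n) : phi hn (-t) = phi hn t := by simp [phi]

variable {G : Type*} [Group G]

/-- Coordinates of a subgroup. -/
structure Frame (S : Subgroup G) (n : ℕ) where
  el : A n → Bool → Bool → G
  two : 2 ≤ n
  mul : ∀ t u v t' u' v', el t u v * el t' u' v' = el (t + act u v t') (xor u u') (xor v v')
  inj : ∀ t u v t' u' v', el t u v = el t' u' v' → t = t' ∧ u = u' ∧ v = v'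
  mem : ∀ x, x ∈ S ↔ ∃ t u v, el t u v = x

namespace Frame

variable {S : Subgroup G} (D : Frame S n)

include D in
theorem nz : n ≠ 0 := by
  have := D.two
  omega

theorem el_mem (t : A n) (u v : Bool) : D.el t u v ∈ S := (D.mem _).2 ⟨t, u, v, rfl⟩

theorem el_one : D.el 0 false false = 1 := by
  have h := D.mul 0 false false 0 false false
  rw [act_zero, add_zero] at h
  simpa using h

theorem el_inv (t : A n) (u v : Bool) : (D.el t u v)⁻¹ = D.el (-act u v t) u v := by
  refine inv_eq_of_mul_eq_one_right ?_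
  rw [D.mul, act_neg, act_act]
  simp only [Bool.xor_self]
  rw [show act false false t = t by simp [act], add_neg_cancel, D.el_one]

theorem conj_el (x t : A n) (u v a b : Bool) :
    D.el x u v * D.el t a b * (D.el x u v)⁻¹ = D.el (x + act u v t - act a b x) a b := by
  rw [D.el_inv, D.mul, D.mul, act_neg, act_act]
  have h1 : ((xor u a) ^^ u) = a := by cases u <;> cases a <;> rfl
  have h2 : ((xor v b) ^^ v) = b := by cases v <;> cases b <;> rfl
  rw [h1, h2, sub_eq_add_neg]

theorem sq_el (t : A n) (a b : Bool) : D.el t a b ^ 2 = D.el (t + act a b t) false false := by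
  rw [pow_two, D.mul]
  simp

theorem orderOf_two {t : A n} {a b : Bool} (h : orderOf (D.el t a b) = 2) :
    t + act a b t = 0 ∧ ¬ (t = 0 ∧ a = false ∧ b = false) := by
  constructor
  · have h1 : D.el t a b ^ 2 = 1 := by rw [← h]; exact pow_orderOf_eq_one _
    rw [D.sq_el, ← D.el_one] at h1
    exact (D.inj _ _ _ _ _ _ h1).1
  · rintro ⟨rfl, rfl, rfl⟩
    rw [D.el_one, orderOf_one] at h
    exact absurd h (by norm_num)

/-- The parity of commutators. -/
theorem commutator_el {x y : G} (hx : x ∈ S) (hy : y ∈ S) :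
    ∃ t, phi D.nz t = 0 ∧ x * y * x⁻¹ * y⁻¹ = D.el t false false := by
  obtain ⟨t, u, v, rfl⟩ := (D.mem x).1 hx
  obtain ⟨t', u', v', rfl⟩ := (D.mem y).1 hy
  refine ⟨t + act u v t' - act u' v' t + -t', ?_, ?_⟩
  · rw [phi_add, sub_eq_add_neg, phi_add, phi_add, phi_neg, phi_neg, phi_act, phi_act]
    generalize phi D.nz t = a
    generalize phi D.nz t' = b
    revert a b
    decide
  · rw [D.conj_el, D.el_inv, D.mul, act_neg, act_act]
    simp [act]

end Frame

end H18.G2Type
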