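import Cfsg.Agent.H18.G2Type.Coord
import Cfsg.Agent.H6.Transfer
import Cfsg.Agent.H70.Conj
import Cfsg.Agent.H85.BrauerSuzuki
import Cfsg.Agent.H3.OutSolvable

/-!
Involution fusion in a simple group with a Sylow 2-subgroup `(C_{2^n} × C_{2^n}) ⋊ ⟨inversion, swap⟩`.
-/

set_option autoImplicit false
set_option linter.style.haveILetI false
set_option linter.unusedSimpArgs false
set_option linter.unusedVariables false
set_option linter.unusedSectionVars false
set_option linter.deprecated false

namespace H18.G2Type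

variable {n : ℕ} {G : Type*} [Group G]

namespace Frame

variable {S : Subgroup G} (D : Frame S n)

/-- The central involution. -/
def zz : G := D.el (half n, half n) false false
/-- A non-central involution of the abelian part. -/
def pp : G := D.el (half n, 0) false false
/-- The swap. -/
def ss : G := D.el 0 false true

theorem isConj_el (x t t' : A n) (u v a b : Bool) (h : x + act u v t - act a b x = t') :
    IsConj (D.el t a b) (D.el t' a b) :=
  isConj_iff.2 ⟨D.el x u v, by rw [D.conj_el, h]⟩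

theorem isConj_i {t t' : A n} (h1 : par D.nz t.1 = par D.nz t'.1) (h2 : par D.nz t.2 = par D.nz t'.2) :
    IsConj (D.el t true false) (D.el t' true false) := by
  obtain ⟨x, hx⟩ := par_eq_of_sub D.nz h1
  obtain ⟨y, hy⟩ := par_eq_of_sub D.nz h2
  refine D.isConj_el (x, y) _ _ false false _ _ ?_
  apply Prod.ext <;> simp [act, hx, hy] <;> abel

theorem isConj_swap (t : A n) (a : Bool) :
    IsConj (D.el t a false) (D.el t.swap a false) := by
  refine D.isConj_el 0 _ _ false true _ _ ?_
  simp [act]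

theorem isConj_ss (c : ZMod (2 ^ n)) : IsConj D.ss (D.el (c, -c) false true) := by
  refine D.isConj_el (c, 0) _ _ false false _ _ ?_
  apply Prod.ext <;> simp [act]

theorem isConj_pp : IsConj D.pp (D.el (0, half n) false false) := D.isConj_swap (half n, 0) false

theorem zz_comm {x : G} (hx : x ∈ S) : x * D.zz = D.zz * x := by
  obtain ⟨t, u, v, rfl⟩ := (D.mem x).1 hx
  have h : act u v ((half n, half n) : A n) = (half n, half n) := by
    cases u <;> cases v <;> simp [act, neg_half D.nz]
  rw [zz, D.mul, D.mul, h]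
  simp [act, add_comm]

/-- The involutions. -/
theorem invol_cases {t : A n} {a b : Bool} (h : orderOf (D.el t a b) = 2) :
    (a = false ∧ b = false ∧ (t = (half n, half n) ∨ t = (half n, 0) ∨ t = (0, half n))) ∨
      (a = true ∧ b = false) ∨ (a = false ∧ b = true ∧ t.2 = -t.1) ∨
      (a = true ∧ b = true ∧ t.2 = t.1) := by
  obtain ⟨h1, h0⟩ := D.orderOf_two h
  have e1 := congrArg Prod.fst h1
  have e2 := congrArg Prod.snd h1
  cases a <;> cases b <;> simp [act] at e1 e2
  · refine Or.inl ⟨rfl, rfl, ?_⟩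
    obtain ⟨c, d⟩ := t
    rcases eq_zero_or_half D.nz e1 with he1 | he1 <;>
      rcases eq_zero_or_half D.nz e2 with he2 | he2 <;> simp_all
  · exact Or.inr (Or.inr (Or.inl ⟨rfl, rfl, eq_neg_of_add_eq_zero_right e1⟩))
  · exact Or.inr (Or.inl ⟨rfl, rfl⟩)
  · exact Or.inr (Or.inr (Or.inr ⟨rfl, rfl, (add_neg_eq_zero.1 e1).symm⟩))

theorem orderOf_el (t : A n) (a b : Bool) (h1 : t + act a b t = 0)
    (h0 : ¬ (t = 0 ∧ a = false ∧ b = false)) : orderOf (D.el t a b) = 2 := by
  refine orderOf_eq_prime (p := 2) ?_ fun h => h0 ?_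
  · rw [D.sq_el, h1, D.el_one]
  · rw [← D.el_one] at h
    exact D.inj _ _ _ _ _ _ h

theorem orderOf_zz : orderOf D.zz = 2 :=
  D.orderOf_el _ _ _ (Prod.ext (half_add_half D.nz) (half_add_half D.nz))
    fun h => half_ne_zero D.nz (congrArg Prod.fst h.1)

theorem orderOf_pp : orderOf D.pp = 2 :=
  D.orderOf_el _ _ _ (Prod.ext (half_add_half D.nz) (add_zero _))
    fun h => half_ne_zero D.nz (congrArg Prod.fst h.1)

end Frame

set_option linter.ambiguousOpen false in
open Frame

variable [Finite G] (S : Sylow 2 G) (D : Frame (S : Subgroup G) n)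

/-- A conjugate of the central involution is taken to it together with its centraliser in `S`. -/
theorem exists_pull {x : G} (hx : x ∈ (S : Subgroup G)) (hxz : IsConj x D.zz) :
    ∃ k : G, k * x * k⁻¹ = D.zz ∧
      ∀ y ∈ (S : Subgroup G), x * y = y * x → k * y * k⁻¹ ∈ (S : Subgroup G) := by
  haveI : Fact (Nat.Prime 2) := ⟨Nat.prime_two⟩
  obtain ⟨k₀, hk₀⟩ := isConj_iff.1 hxz
  set R := (S : Subgroup G) ⊓ Subgroup.centralizer ({x} : Set G) with hR
  have hK : (S : Subgroup G) ≤ Subgroup.centralizer ({D.zz} : Set G) := fun y hy =>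
    Subgroup.mem_centralizer_singleton_iff.2 (D.zz_comm hy)
  have hQK : H70.cj k₀ R ≤ Subgroup.centralizer ({D.zz} : Set G) := by
    rintro _ ⟨y, hy, rfl⟩
    rw [Subgroup.mem_centralizer_singleton_iff, ← hk₀]
    have hc := Subgroup.mem_centralizer_singleton_iff.1 hy.2
    simp only [MulEquiv.coe_toMonoidHom, MulAut.conj_apply]
    calc k₀ * y * k₀⁻¹ * (k₀ * x * k₀⁻¹) = k₀ * (y * x) * k₀⁻¹ := by group
      _ = k₀ * (x * y) * k₀⁻¹ := by rw [hc]
      _ = _ := by group
  obtain ⟨h, hh, hle⟩ := H70.exists_cj_le_sylow S hK ((S.2.to_le inf_le_left).map _) hQK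
  refine ⟨h * k₀, ?_, fun y hy hxy => ?_⟩
  · have hc := Subgroup.mem_centralizer_singleton_iff.1 hh
    calc h * k₀ * x * (h * k₀)⁻¹ = h * (k₀ * x * k₀⁻¹) * h⁻¹ := by group
      _ = h * D.zz * h⁻¹ := by rw [hk₀]
      _ = D.zz := by rw [hc, mul_inv_cancel_right]
  · have hm : h * (k₀ * y * k₀⁻¹) * h⁻¹ ∈ (S : Subgroup G) :=
      hle ⟨_, ⟨y, ⟨hy, Subgroup.mem_centralizer_singleton_iff.2 hxy.symm⟩, rfl⟩, rfl⟩
    convert hm using 1
    group

/-- If a conjugate `x ≠ z` of `z` centralises two elements with commutator `z`, then `p` fuses to `z`. -/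
theorem pp_conj_of_commutator {x c d : G} (hx : x ∈ (S : Subgroup G)) (hxz : IsConj x D.zz) (hne : x ≠ D.zz)
    (hc : c ∈ (S : Subgroup G)) (hd : d ∈ (S : Subgroup G)) (hxc : x * c = c * x) (hxd : x * d = d * x)
    (hcd : c * d * c⁻¹ * d⁻¹ = D.zz) : IsConj D.pp D.zz := by
  obtain ⟨k, hk, hS⟩ := exists_pull S D hx hxz
  obtain ⟨t, ht, he⟩ := D.commutator_el (hS c hc hxc) (hS d hd hxd)
  have hz : k * D.zz * k⁻¹ = D.el t false false := by rw [← he, ← hcd]; group
  have hord : orderOf (D.el t false false) = 2 := by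
    rw [← hz, ← MulAut.conj_apply, MulEquiv.orderOf_eq, D.orderOf_zz]
  have hcj : IsConj D.zz (D.el t false false) := isConj_iff.2 ⟨k, hz⟩
  rcases D.invol_cases hord with ⟨-, -, rfl | rfl | rfl⟩ | ⟨h, -⟩ | ⟨-, h, -⟩ | ⟨h, -⟩
  · exact absurd (mul_left_cancel (mul_right_cancel (hk.trans (show D.zz = k * D.zz * k⁻¹ from hz.symm)))) hne
  · exact hcj.symm
  · exact D.isConj_pp.trans hcj.symm
  all_goals exact absurd h (by decide)

variable [IsSimpleGroup G] (hna : ¬ IsMulCommutative G)

include hna in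
theorem not_index_two (M : Subgroup G) [hM : M.Normal] : M.index ≠ 2 := by
  intro h
  rcases hM.eq_bot_or_eq_top with rfl | rfl
  · rw [Subgroup.index_bot] at h
    exact hna (isCyclic_of_prime_card (α := G) (hp := ⟨Nat.prime_two⟩) h).commutative
  · rw [Subgroup.index_top] at h
    omega

include hna in
theorem exists_other_conj : ∃ x ∈ (S : Subgroup G), IsConj x D.zz ∧ x ≠ D.zz := by
  haveI : Fact (Nat.Prime 2) := ⟨Nat.prime_two⟩
  have hzS : D.zz ∈ (S : Subgroup G) := D.el_mem _ _ _
  have hz1 : D.zz ≠ 1 := fun h => by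
    have := D.orderOf_zz
    rw [h, orderOf_one] at this
    omega
  have hS1 : (S : Subgroup G) ≠ ⊥ := fun h => hz1 (Subgroup.mem_bot.1 (h.le hzS))
  have hni : ¬ Cfsg.IsIsolatedInvolution D.zz := by
    intro hi
    have h := H85.zStar hi
    have hcen : D.zz ∈ Subgroup.center G := Subgroup.mem_center_iff.2 fun g => by
      have h1 := h g
      rw [H3.AutFixSylow.simple_oddCore_eq_bot S hS1, Subgroup.mem_bot, mul_inv_eq_one,
        mul_inv_eq_iff_eq_mul] at h1
      exact h1.symm
    rw [H3.AutFixSylow.simple_center_eq_bot hna, Subgroup.mem_bot] at hcen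
    exact hz1 hcen
  rw [Cfsg.IsIsolatedInvolution, not_and, not_forall] at hni
  obtain ⟨g, hg⟩ := hni D.orderOf_zz
  rw [_root_.not_imp] at hg
  set w := g * D.zz * g⁻¹ with hw
  have hp : IsPGroup 2 (Subgroup.zpowers D.zz ⊔ Subgroup.zpowers w : Subgroup G) := by
    have hwo : orderOf w = 2 := by rw [hw, ← MulAut.conj_apply, MulEquiv.orderOf_eq, D.orderOf_zz]
    refine IsPGroup.to_sup_of_normal_right' (IsPGroup.of_card (n := 1)
      (by rw [Nat.card_zpowers, D.orderOf_zz, pow_one])) (IsPGroup.of_card (n := 1)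
      (by rw [Nat.card_zpowers, hwo, pow_one])) ?_
    rw [Subgroup.zpowers_le, Subgroup.mem_normalizer_iff]
    intro y
    have hyc : ∀ y' ∈ Subgroup.zpowers w, D.zz * y' * D.zz⁻¹ = y' := fun y' hy' => by
      obtain ⟨k, rfl⟩ := Subgroup.mem_zpowers_iff.1 hy'
      rw [(hg.1.zpow_right k).eq, mul_inv_cancel_right]
    refine ⟨fun hy => by rwa [hyc y hy], fun hy => ?_⟩
    have h2 := hyc _ hy
    rwa [mul_left_cancel (mul_right_cancel h2)] at hy
  obtain ⟨R, hR⟩ := hp.exists_le_sylow
  obtain ⟨m, hm⟩ := MulAction.exists_smul_eq G R S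
  have key : ∀ y ∈ (R : Subgroup G), m * y * m⁻¹ ∈ (S : Subgroup G) := fun y hy => by
    rw [← hm]
    exact Subgroup.smul_mem_pointwise_smul y (MulAut.conj m) _ hy
  by_cases hmz : m * D.zz * m⁻¹ = D.zz
  · refine ⟨m * w * m⁻¹, key _ (hR (le_sup_right (α := Subgroup G) (Subgroup.mem_zpowers w))),
      (isConj_iff.2 ⟨m * g, by rw [hw]; group⟩).symm, fun h => hg.2 ?_⟩
    exact mul_left_cancel (mul_right_cancel (h.trans hmz.symm))
  · exact ⟨_, key _ (hR (le_sup_left (α := Subgroup G) (Subgroup.mem_zpowers D.zz))),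
      (isConj_iff.2 ⟨m, rfl⟩).symm, hmz⟩

include hna in
/-- Every involution is conjugate to `z`, `p` or `s`. -/
theorem trichotomy {x : G} (hx : orderOf x = 2) :
    IsConj x D.zz ∨ IsConj x D.pp ∨ IsConj x D.ss := by
  let Q : Subgroup G :=
    { carrier := {y | ∃ t b, D.el t false b = y}
      mul_mem' := by
        rintro _ _ ⟨t, b, rfl⟩ ⟨t', b', rfl⟩
        exact ⟨_, _, (D.mul t false b t' false b').symm⟩
      one_mem' := ⟨0, false, D.el_one⟩
      inv_mem' := by
        rintro _ ⟨t, b, rfl⟩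
        exact ⟨_, _, (D.el_inv t false b).symm⟩ }
  have hQS : Q ≤ (S : Subgroup G) := by rintro _ ⟨t, b, rfl⟩; exact D.el_mem _ _ _
  have hidx : Q.relIndex (S : Subgroup G) = 2 := by
    rw [Subgroup.relIndex, Subgroup.index_eq_two_iff]
    refine ⟨⟨D.el 0 true false, D.el_mem _ _ _⟩, fun ⟨y, hy⟩ => ?_⟩
    obtain ⟨t, u, v, rfl⟩ := (D.mem y).1 hy
    simp only [Subgroup.mem_subgroupOf, MulMemClass.mk_mul_mk, D.mul]
    have hm : ∀ (t' : A n) (u' v' : Bool), D.el t' u' v' ∈ Q ↔ u' = false := fun t' u' v' => by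
      refine ⟨fun ⟨t'', b, e⟩ => (D.inj _ _ _ _ _ _ e).2.1.symm, ?_⟩
      rintro rfl
      exact ⟨t', v', rfl⟩
    rw [hm, hm]
    cases u <;> simp [Xor]
  rcases H6.thompson_transfer S Q hQS hidx x hx with ⟨M, hM, hM2, -⟩ | ⟨g, hg⟩
  · exact absurd hM2 (not_index_two hna M)
  obtain ⟨t, b, e⟩ := hg
  have hord : orderOf (D.el t false b) = 2 := by
    rw [e, ← MulAut.conj_apply, MulEquiv.orderOf_eq, hx]
  have hxy : IsConj x (D.el t false b) := isConj_iff.2 ⟨g, e.symm⟩
  rcases D.invol_cases hord with ⟨-, rfl, rfl | rfl | rfl⟩ | ⟨h, -⟩ | ⟨-, rfl, h⟩ | ⟨h, -⟩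
  · exact Or.inl hxy
  · exact Or.inr (Or.inl hxy)
  · exact Or.inr (Or.inl (hxy.trans D.isConj_pp.symm))
  · exact absurd h (by decide)
  · refine Or.inr (Or.inr (hxy.trans ?_))
    rw [show t = (t.1, -t.1) from Prod.ext rfl h]
    exact (D.isConj_ss t.1).symm
  · exact absurd h (by decide)

include hna in
theorem pp_isConj_zz : IsConj D.pp D.zz := by
  by_contra hp
  have hz1 : ∀ w ∈ (S : Subgroup G), IsConj w D.zz → w = D.zz ∨
      ∃ t : A n, phi D.nz t = 1 ∧ w = D.el t true false := by
    intro w hw hwz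
    by_cases hne : w = D.zz
    · exact Or.inl hne
    refine Or.inr ?_
    obtain ⟨t, a, b, rfl⟩ := (D.mem w).1 hw
    have hord : orderOf (D.el t a b) = 2 := by
      obtain ⟨g, hg⟩ := isConj_iff.1 hwz
      rw [← MulEquiv.orderOf_eq (MulAut.conj g), MulAut.conj_apply, hg, D.orderOf_zz]
    obtain ⟨m, hm⟩ : ∃ m, n = m + 2 := ⟨n - 2, by have := D.two; omega⟩
    have hq : ((2 ^ (n - 2) : ℕ) : ZMod (2 ^ n)) + ((2 ^ (n - 2) : ℕ) : ZMod (2 ^ n)) = half n := by
      rw [half, ← Nat.cast_add]
      congr 1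
      rw [hm, Nat.add_sub_cancel, ← two_mul, ← pow_succ']
      rfl
    have hq' : -((2 ^ (n - 2) : ℕ) : ZMod (2 ^ n)) + -((2 ^ (n - 2) : ℕ) : ZMod (2 ^ n)) = half n := by
      rw [← neg_add, hq, neg_half D.nz]
    rcases D.invol_cases hord with ⟨rfl, rfl, rfl | rfl | rfl⟩ | ⟨rfl, rfl⟩ | ⟨rfl, rfl, h⟩ | ⟨rfl, rfl, h⟩
    · exact absurd rfl hne
    · exact absurd hwz hp
    · exact absurd (D.isConj_pp.trans hwz) hp
    · refine ⟨t, ?_, rfl⟩
      rcases (show phi D.nz t = 0 ∨ phi D.nz t = 1 by generalize phi D.nz t = a; revert a; decide)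
        with h0 | h0
      swap
      · exact h0
      exfalso
      have hsym : par D.nz t.1 = par D.nz t.2 := by
        revert h0; unfold phi; generalize par D.nz t.1 = a; generalize par D.nz t.2 = b
        revert a b; decide
      set d : A n := (t.1, t.1) with hd
      have hc : IsConj (D.el d true false) (D.el t true false) := D.isConj_i rfl hsym
      apply hp
      refine pp_conj_of_commutator S D (x := D.el d true false) (c := D.el (half n, 0) false false)
        (d := D.el 0 false true) (D.el_mem _ _ _) (hc.trans hwz) ?_ (D.el_mem _ _ _) (D.el_mem _ _ _)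
        ?_ ?_ ?_
      · exact fun e => absurd (D.inj _ _ _ _ _ _ e).2.1 (by decide)
      · rw [D.mul, D.mul]
        simp [act, hd, neg_half D.nz, add_comm]
      · rw [D.mul, D.mul]
        simp [act, hd]
      · rw [D.conj_el, D.el_inv, D.mul]
        simp [act, Frame.zz, neg_half D.nz]
    · exfalso
      apply hp
      rw [show t = (t.1, -t.1) from Prod.ext rfl h] at hwz
      refine pp_conj_of_commutator S D (x := D.el 0 false true)
        (c := D.el (((2 ^ (n - 2) : ℕ) : ZMod (2 ^ n)), ((2 ^ (n - 2) : ℕ) : ZMod (2 ^ n))) false false)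
        (d := D.el 0 true false) (D.el_mem _ _ _) ((D.isConj_ss t.1).trans hwz) ?_ (D.el_mem _ _ _)
        (D.el_mem _ _ _) ?_ ?_ ?_
      · exact fun e => absurd (D.inj _ _ _ _ _ _ e).2.2 (by decide)
      · rw [D.mul, D.mul]; simp [act]
      · rw [D.mul, D.mul]; simp [act]
      · rw [D.conj_el, D.el_inv, D.mul]
        generalize ((2 ^ (n - 2) : ℕ) : ZMod (2 ^ n)) = r at hq
        simp [act, Frame.zz, hq]
    · exfalso
      apply hp
      have h1 : IsConj (D.el (0 : A n) true true) (D.el t true true) := by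
        refine D.isConj_el (t.1, 0) _ _ false false _ _ ?_
        apply Prod.ext <;> simp [act, h]
      refine pp_conj_of_commutator S D (x := D.el 0 true true)
        (c := D.el (((2 ^ (n - 2) : ℕ) : ZMod (2 ^ n)), -((2 ^ (n - 2) : ℕ) : ZMod (2 ^ n))) false false)
        (d := D.el 0 true false) (D.el_mem _ _ _) (h1.trans hwz) ?_ (D.el_mem _ _ _)
        (D.el_mem _ _ _) ?_ ?_ ?_
      · exact fun e => absurd (D.inj _ _ _ _ _ _ e).2.1 (by decide)
      · rw [D.mul, D.mul]; simp [act]
      · rw [D.mul, D.mul]; simp [act]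
      · rw [D.conj_el, D.el_inv, D.mul]
        generalize ((2 ^ (n - 2) : ℕ) : ZMod (2 ^ n)) = r at hq hq'
        simp [act, Frame.zz, hq, hq', sub_eq_add_neg]
  obtain ⟨x, hx, hxz, hne⟩ := exists_other_conj S D hna
  obtain ⟨t, ht, rfl⟩ := (hz1 x hx hxz).resolve_left hne
  obtain ⟨k, hk, hS⟩ := exists_pull S D hx hxz
  -- the four translates of `x` by involutions of the abelian part
  have ht2 : ∀ d : A n, d + d = 0 → par D.nz d.1 = 0 ∧ par D.nz d.2 = 0 := fun d hd => by
    constructor
    · rcases eq_zero_or_half D.nz (congrArg Prod.fst hd) with e | e <;>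
        simp [show d.1 = _ from e, par_half D.two]
    · rcases eq_zero_or_half D.nz (congrArg Prod.snd hd) with e | e <;>
        simp [show d.2 = _ from e, par_half D.two]
  have himg : ∀ d : A n, d + d = 0 → d ≠ 0 →
      ∃ t' : A n, k * D.el (d + t) true false * k⁻¹ = D.el t' true false := by
    intro d hd hd0
    have hm : k * D.el (d + t) true false * k⁻¹ ∈ (S : Subgroup G) := by
      refine hS _ (D.el_mem _ _ _) ?_
      have hnd : -d = d := neg_eq_of_add_eq_zero_left hd
      rw [D.mul, D.mul]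
      congr 1
      simp only [act, cond_true, cond_false, neg_add, hnd]
      calc t + (d + -t) = d + (t + -t) := by abel
        _ = d + (t + -t) := rfl
        _ = d + t + -t := by abel
    have hcz : IsConj (k * D.el (d + t) true false * k⁻¹) D.zz := by
      refine (isConj_iff.2 ⟨k, rfl⟩).symm.trans ((D.isConj_i ?_ ?_).trans hxz)
      · simp [(ht2 d hd).1]
      · simp [(ht2 d hd).2]
    rcases hz1 _ hm hcz with e | ⟨t', -, e⟩
    · exfalso
      apply hd0
      have := (D.inj _ _ _ _ _ _ (mul_left_cancel (mul_right_cancel (e.trans hk.symm)))).1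
      simpa using this
    · exact ⟨t', e⟩
  have hh := half_add_half D.nz
  have hh0 := half_ne_zero D.nz
  obtain ⟨t₁, h₁⟩ := himg (half n, half n) (Prod.ext hh hh) fun e => hh0 (congrArg Prod.fst e)
  obtain ⟨t₂, h₂⟩ := himg (half n, 0) (Prod.ext hh (add_zero 0)) fun e => hh0 (congrArg Prod.fst e)
  obtain ⟨t₃, h₃⟩ := himg (0, half n) (Prod.ext (add_zero 0) hh) fun e => hh0 (congrArg Prod.snd e)
  -- the images of `p` and `p'` lie among the non-central involutions of the abelian part
  have key : ∀ (d d' : A n) (y y' : A n), k * D.el (d + t) true false * k⁻¹ = D.el y true false →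
      k * D.el (d' + t) true false * k⁻¹ = D.el y' true false →
      IsConj D.pp (D.el (d - d') false false) →
      k * D.el (d - d') false false * k⁻¹ = D.el (half n, 0) false false ∨
        k * D.el (d - d') false false * k⁻¹ = D.el (0, half n) false false := by
    intro d d' y y' e e' hpd
    have he : D.el (d - d') false false = D.el (d + t) true false * D.el (d' + t) true false := by
      rw [D.mul]
      simp only [act, cond_true, cond_false, Bool.xor_self]
      congr 1
      abel
    have hcomp : k * D.el (d - d') false false * k⁻¹ = D.el (y + -y') false false := by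
      rw [he, show k * (D.el (d + t) true false * D.el (d' + t) true false) * k⁻¹ =
        (k * D.el (d + t) true false * k⁻¹) * (k * D.el (d' + t) true false * k⁻¹) by group, e, e', D.mul]
      simp [act]
    have hcj : IsConj D.pp (D.el (y + -y') false false) := hpd.trans (isConj_iff.2 ⟨k, hcomp⟩)
    have hord : orderOf (D.el (y + -y') false false) = 2 := by
      obtain ⟨g, hg⟩ := isConj_iff.1 hcj
      rw [← hg, ← MulAut.conj_apply, MulEquiv.orderOf_eq, D.orderOf_pp]
    rw [hcomp]
    rcases D.invol_cases hord with ⟨-, -, h | h | h⟩ | ⟨h, -⟩ | ⟨-, h, -⟩ | ⟨h, -⟩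
    · exact absurd (show IsConj D.pp D.zz by rw [h] at hcj; exact hcj) hp
    · exact Or.inl (by rw [h])
    · exact Or.inr (by rw [h])
    all_goals exact absurd h (by decide)
  have hp1 := key (half n, half n) (0, half n) t₁ t₃ h₁ h₃
    (by rw [show ((half n, half n) : A n) - (0, half n) = (half n, 0) by simp]; exact IsConj.refl _)
  have hp2 := key (half n, half n) (half n, 0) t₁ t₂ h₁ h₂
    (by rw [show ((half n, half n) : A n) - (half n, 0) = (0, half n) by simp]; exact D.isConj_pp)
  rw [show ((half n, half n) : A n) - (0, half n) = (half n, 0) by simp] at hp1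
  rw [show ((half n, half n) : A n) - (half n, 0) = (0, half n) by simp] at hp2
  have hprod : D.el (half n, 0) false false * D.el (0, half n) false false = D.zz := by
    rw [D.mul]; simp [act, Frame.zz]
  have hne' : k * D.el (half n, 0) false false * k⁻¹ ≠ k * D.el (0, half n) false false * k⁻¹ :=
    fun e => hh0 (congrArg Prod.fst (D.inj _ _ _ _ _ _ (mul_left_cancel (mul_right_cancel e))).1)
  have hkz : k * D.zz * k⁻¹ = D.zz := by
    conv_lhs => rw [← hprod, show k * (D.el (half n, 0) false false * D.el (0, half n) false false) * k⁻¹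
      = (k * D.el (half n, 0) false false * k⁻¹) * (k * D.el (0, half n) false false * k⁻¹) by group]
    rcases hp1 with e1 | e1 <;> rcases hp2 with e2 | e2 <;>
      first
        | exact absurd (e1.trans e2.symm) hne'
        | (rw [e1, e2, D.mul]; simp [act, Frame.zz])
  exact hne (mul_left_cancel (mul_right_cancel (hk.trans hkz.symm)))

end H18.G2Type
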