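import Cfsg.Agent.H18.G2Type.Coord
import Cfsg.Agent.H18.SquaresG2
import Cfsg.Agent.H55.G2Model

/-!
Coordinates on a Sylow 2-subgroup of `G₂(q)`, `q` odd.
-/

set_option autoImplicit false
set_option linter.style.haveILetI false
set_option linter.unusedSimpArgs false
set_option linter.unusedVariables false
set_option linter.unusedSectionVars false

open Matrix Cfsg.Lie

namespace H18.G2Type

/-- Coordinates from generators. -/
theorem exists_frame_of_gens {L : Type*} [Group L] {n : ℕ} (hn : 2 ≤ n) (a b i s : L)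
    (haN : a ^ 2 ^ n = 1) (hbN : b ^ 2 ^ n = 1) (hab : Commute a b) (hi : i * i = 1) (hs : s * s = 1)
    (his : i * s = s * i) (hia : i * a * i⁻¹ = a⁻¹) (hib : i * b * i⁻¹ = b⁻¹)
    (hsa : s * a * s⁻¹ = b) (hsb : s * b * s⁻¹ = a)
    (htriv : ∀ (k l : ℕ) (u v : Bool), k < 2 ^ n → l < 2 ^ n →
      a ^ k * b ^ l * (bif u then i else 1) * (bif v then s else 1) = 1 →
        k = 0 ∧ l = 0 ∧ u = false ∧ v = false) :
    ∃ S : Subgroup L, Nonempty (Frame S n) := by
  haveI : NeZero (2 ^ n) := ⟨by positivity⟩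
  let Aa : A n → L := fun t => a ^ t.1.val * b ^ t.2.val
  let w : Bool → Bool → L := fun u v => (bif u then i else 1) * (bif v then s else 1)
  have hpow : ∀ (c : L), c ^ 2 ^ n = 1 → ∀ x y : ZMod (2 ^ n), c ^ (x + y).val = c ^ x.val * c ^ y.val := by
    intro c hc x y
    rw [ZMod.val_add, ← pow_eq_pow_mod _ hc, pow_add]
  have hneg : ∀ (c : L), c ^ 2 ^ n = 1 → ∀ x : ZMod (2 ^ n), c ^ (-x).val = (c ^ x.val)⁻¹ := by
    intro c hc x
    rw [eq_inv_iff_mul_eq_one, ← hpow c hc, neg_add_cancel, ZMod.val_zero, pow_zero]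
  have hAadd : ∀ t t' : A n, Aa (t + t') = Aa t * Aa t' := by
    intro t t'
    show a ^ (t.1 + t'.1).val * b ^ (t.2 + t'.2).val = a ^ t.1.val * b ^ t.2.val * (a ^ t'.1.val * b ^ t'.2.val)
    rw [hpow a haN, hpow b hbN, (hab.pow_pow _ _).mul_mul_mul_comm]
  have hA0 : Aa 0 = 1 := by simp [Aa]
  have hiA : ∀ t : A n, i * Aa t * i⁻¹ = Aa (-t) := by
    intro t
    show MulAut.conj i (a ^ t.1.val * b ^ t.2.val) = a ^ (-t.1).val * b ^ (-t.2).val
    rw [map_mul, map_pow, map_pow, MulAut.conj_apply, MulAut.conj_apply, hia, hib, hneg a haN,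
      hneg b hbN, inv_pow, inv_pow]
  have hsA : ∀ t : A n, s * Aa t * s⁻¹ = Aa t.swap := by
    intro t
    show MulAut.conj s (a ^ t.1.val * b ^ t.2.val) = a ^ t.2.val * b ^ t.1.val
    rw [map_mul, map_pow, map_pow, MulAut.conj_apply, MulAut.conj_apply, hsa, hsb,
      (hab.pow_pow _ _).eq]
  have hwA : ∀ (u v : Bool) (t : A n), w u v * Aa t = Aa (act u v t) * w u v := by
    intro u v t
    have h1 : ∀ t, s * Aa t = Aa t.swap * s := fun t => by rw [← hsA, inv_mul_cancel_right]
    have h2 : ∀ t, i * Aa t = Aa (-t) * i := fun t => by rw [← hiA, inv_mul_cancel_right]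
    cases u <;> cases v <;> simp only [w, act, cond_true, cond_false, one_mul, mul_one]
    · exact h1 t
    · exact h2 t
    · rw [mul_assoc, h1, ← mul_assoc, h2, mul_assoc]
  have hww : ∀ u v u' v' : Bool, w u v * w u' v' = w (xor u u') (xor v v') := by
    intro u v u' v'
    have h1 : ∀ y, s * (i * y) = i * (s * y) := fun y => by rw [← mul_assoc, ← his, mul_assoc]
    cases u <;> cases v <;> cases u' <;> cases v' <;>
      simp [w, mul_assoc, hi, hs, h1, his.symm,
        show ∀ y, i * (i * y) = y from fun y => by rw [← mul_assoc, hi, one_mul]]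
  let el : A n → Bool → Bool → L := fun t u v => Aa t * w u v
  have hmul : ∀ t u v t' u' v', el t u v * el t' u' v' = el (t + act u v t') (xor u u') (xor v v') := by
    intro t u v t' u' v'
    show Aa t * w u v * (Aa t' * w u' v') = _
    rw [mul_assoc, ← mul_assoc (w u v), hwA, mul_assoc (Aa (act u v t')), hww, ← mul_assoc, ← hAadd]
  have hone : el 0 false false = 1 := by simp [el, w, hA0]
  have hinv : ∀ t u v, el t u v * el (-act u v t) u v = 1 := fun t u v => by
    rw [hmul, act_neg, act_act, ← hone]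
    simp [act]
  let S : Subgroup L :=
    { carrier := {x | ∃ t u v, el t u v = x}
      mul_mem' := by
        rintro _ _ ⟨t, u, v, rfl⟩ ⟨t', u', v', rfl⟩
        exact ⟨_, _, _, (hmul t u v t' u' v').symm⟩
      one_mem' := ⟨0, false, false, hone⟩
      inv_mem' := by
        rintro _ ⟨t, u, v, rfl⟩
        exact ⟨_, _, _, (inv_eq_of_mul_eq_one_right (hinv t u v)).symm⟩ }
  refine ⟨S, ⟨{ el := el, two := hn, mul := hmul, inj := ?_, mem := fun x => Iff.rfl }⟩⟩
  intro t u v t' u' v' e
  have h1 : el t u v * el (-act u' v' t') u' v' = 1 := by rw [e, hinv]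
  rw [hmul] at h1
  have h2 := htriv (t + act u v (-act u' v' t')).1.val (t + act u v (-act u' v' t')).2.val (xor u u') (xor v v')
    (ZMod.val_lt _) (ZMod.val_lt _) ((mul_assoc _ _ _).trans h1)
  obtain ⟨hk, hl, hu, hv⟩ := h2
  have hu' : u = u' := by revert hu; cases u <;> cases u' <;> simp
  have hv' : v = v' := by revert hv; cases v <;> cases v' <;> simp
  subst hu' hv'
  refine ⟨?_, rfl, rfl⟩
  have h3 : t + act u v (-act u v t') = 0 :=
    Prod.ext ((ZMod.val_eq_zero _).1 hk) ((ZMod.val_eq_zero _).1 hl)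
  rw [act_neg, act_act, Bool.xor_self, Bool.xor_self, ← sub_eq_add_neg, sub_eq_zero] at h3
  simpa [act] using h3

variable {F : Type*} [Field F] [Fintype F]

theorem sl2_invol (h2 : (2 : F) ≠ 0) {y : SpecialLinearGroup (Fin 2) F} (hy : y * y = 1) (h1 : y ≠ 1) :
    (y : Matrix (Fin 2) (Fin 2) F) = -1 := by
  have e : (y : Matrix (Fin 2) (Fin 2) F) = (y : Matrix (Fin 2) (Fin 2) F).adjugate :=
    (congrArg (fun m : SpecialLinearGroup (Fin 2) F => (m : Matrix (Fin 2) (Fin 2) F))
      (eq_inv_of_mul_eq_one_left hy)).trans (Matrix.SpecialLinearGroup.coe_inv y)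
  rw [adjugate_fin_two] at e
  have e00 := congrFun (congrFun e 0) 0
  have e01 := congrFun (congrFun e 0) 1
  have e10 := congrFun (congrFun e 1) 0
  simp at e00 e01 e10
  have hb : (y : Matrix (Fin 2) (Fin 2) F) 0 1 = 0 :=
    (mul_eq_zero.1 (show (2 : F) * _ = 0 by linear_combination e01)).resolve_left h2
  have hc : (y : Matrix (Fin 2) (Fin 2) F) 1 0 = 0 :=
    (mul_eq_zero.1 (show (2 : F) * _ = 0 by linear_combination e10)).resolve_left h2
  have hd := y.2
  rw [det_fin_two, hb, hc, mul_zero, sub_zero, ← e00, mul_self_eq_one_iff] at hd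
  rcases hd with hd | hd
  · refine absurd (Subtype.ext ?_) h1
    ext i j
    fin_cases i <;> fin_cases j <;> simp [hb, hc, hd, ← e00]
  · ext i j
    fin_cases i <;> fin_cases j <;> simp [hb, hc, hd, ← e00]

/-- A Sylow 2-subgroup of `G₂(q)` has coordinates. -/
theorem exists_frame_g2 (hodd : Odd (Fintype.card F)) :
    ∃ (P : Sylow 2 (G2 F)) (n : ℕ), Nonempty (Frame (P : Subgroup (G2 F)) n) := by
  classical
  haveI : Fact (Nat.Prime 2) := ⟨Nat.prime_two⟩
  have h2 : (2 : F) ≠ 0 := H55.G2.two_ne_zero_of_odd hodd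
  obtain ⟨p, hp⟩ := CharP.exists F
  obtain ⟨em, hpp, hcard⟩ := FiniteField.card F p
  haveI : Fact p.Prime := ⟨hpp⟩
  have hp2 : p ≠ 2 := by
    rintro rfl
    exact h2 (by exact_mod_cast CharP.cast_eq_zero F 2)
  obtain ⟨P0⟩ : Nonempty (Sylow 2 (SpecialLinearGroup (Fin 2) F)) := inferInstance
  obtain ⟨k, hk, ⟨e⟩⟩ := H37.sylow_two_quaternion p hp2 P0
  obtain ⟨k, rfl⟩ : ∃ k', k = k' + 1 := ⟨k - 1, by omega⟩
  haveI : NeZero (2 ^ (k + 1)) := ⟨by positivity⟩
  have hval : (Fintype.card F ^ 2 - 1).factorization 2 = k + 3 := by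
    have h1 : 2 ^ (Nat.card (SpecialLinearGroup (Fin 2) F)).factorization 2 = 2 ^ (k + 3) := by
      rw [← P0.card_eq_multiplicity, Nat.card_congr e.toEquiv, Nat.card_eq_fintype_card, QuaternionGroup.card]
      ring
    rw [val_card_sl2 hodd] at h1
    exact Nat.pow_right_injective le_rfl h1
  -- the quaternion generators
  let Aq : SpecialLinearGroup (Fin 2) F := ((e.symm (QuaternionGroup.a 1)) : SpecialLinearGroup (Fin 2) F)
  let Xq : SpecialLinearGroup (Fin 2) F := ((e.symm (QuaternionGroup.xa 0)) : SpecialLinearGroup (Fin 2) F)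
  have hord : orderOf Aq = 2 ^ (k + 2) := by
    show orderOf ((e.symm (QuaternionGroup.a 1)) : SpecialLinearGroup (Fin 2) F) = _
    rw [Subgroup.orderOf_coe, MulEquiv.orderOf_eq, QuaternionGroup.orderOf_a_one]
    ring
  have hXA : Xq * Aq = Aq⁻¹ * Xq := by
    have h0 : (QuaternionGroup.xa 0 : QuaternionGroup (2 ^ (k + 1))) * QuaternionGroup.a 1 =
        (QuaternionGroup.a 1)⁻¹ * QuaternionGroup.xa 0 := by
      rw [eq_inv_mul_iff_mul_eq, QuaternionGroup.xa_mul_a, QuaternionGroup.a_mul_xa]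
      simp
    have := congrArg (fun x => ((e.symm x) : SpecialLinearGroup (Fin 2) F)) h0
    simp only [map_mul, map_inv, Subgroup.coe_mul, Subgroup.coe_inv] at this
    exact this
  have hsq : ∀ y, y * y = Aq ^ 2 ^ (k + 1) → (y : Matrix (Fin 2) (Fin 2) F) * y = -1 := by
    intro y hy
    rw [← Matrix.SpecialLinearGroup.coe_mul, hy]
    refine sl2_invol h2 ?_ ?_
    · rw [← pow_add, ← two_mul, ← pow_succ', ← hord, pow_orderOf_eq_one]
    · intro h
      have h3 := Nat.le_of_dvd (by positivity) (hord ▸ orderOf_dvd_of_pow_eq_one h)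
      exact absurd h3 (not_le.2 (Nat.pow_lt_pow_right (by norm_num) (by omega)))
  have hXX : Xq * Xq = Aq ^ 2 ^ (k + 1) := by
    have h0 : (QuaternionGroup.xa 0 : QuaternionGroup (2 ^ (k + 1))) * QuaternionGroup.xa 0 =
        QuaternionGroup.a 1 ^ 2 ^ (k + 1) := by
      rw [QuaternionGroup.xa_mul_xa, QuaternionGroup.a_one_pow]
      simp
    have := congrArg (fun x => ((e.symm x) : SpecialLinearGroup (Fin 2) F)) h0
    simp only [map_mul, map_pow, Subgroup.coe_mul, Subgroup.coe_pow] at this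
    exact this
  -- the matrices
  set g : Matrix (Fin 2) (Fin 2) F := (Aq : Matrix (Fin 2) (Fin 2) F) with hg
  set gi : Matrix (Fin 2) (Fin 2) F := ((Aq⁻¹ : SpecialLinearGroup (Fin 2) F) : Matrix (Fin 2) (Fin 2) F)
    with hgi
  set X : Matrix (Fin 2) (Fin 2) F := (Xq : Matrix (Fin 2) (Fin 2) F) with hX
  set D : Matrix (Fin 2) (Fin 2) F := g ^ 2 ^ k with hD
  have hggi : g * gi = 1 := by
    rw [hg, hgi, ← Matrix.SpecialLinearGroup.coe_mul, mul_inv_cancel, Matrix.SpecialLinearGroup.coe_one]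
  have hgig : gi * g = 1 := by
    rw [hg, hgi, ← Matrix.SpecialLinearGroup.coe_mul, inv_mul_cancel, Matrix.SpecialLinearGroup.coe_one]
  have hXg : X * g = gi * X := by
    rw [hX, hg, hgi, ← Matrix.SpecialLinearGroup.coe_mul, hXA, Matrix.SpecialLinearGroup.coe_mul]
  have hgX : g * X = X * gi := by
    calc g * X = g * (X * g) * gi := by rw [mul_assoc, mul_assoc, hggi, mul_one]
      _ = X * gi := by rw [hXg, ← mul_assoc g, hggi, one_mul]
  have hXX' : X * X = -1 := hsq Xq hXX
  have hDD : D * D = -1 := by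
    rw [hD, ← pow_add, ← two_mul, ← pow_succ', hg, ← Matrix.SpecialLinearGroup.coe_pow]
    refine sl2_invol h2 ?_ ?_
    · rw [← pow_add, ← two_mul, ← pow_succ', ← hord, pow_orderOf_eq_one]
    · intro h
      have h3 := Nat.le_of_dvd (by positivity) (hord ▸ orderOf_dvd_of_pow_eq_one h)
      exact absurd h3 (not_le.2 (Nat.pow_lt_pow_right (by norm_num) (by omega)))
  have hne : g ≠ gi := by
    intro h
    have h1 : g ^ 2 = 1 := by rw [pow_two]; nth_rewrite 2 [h]; exact hggi
    have h3 : Aq ^ 2 = 1 := Subtype.ext (by rw [Matrix.SpecialLinearGroup.coe_pow]; exact h1)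
    have h4 := Nat.le_of_dvd two_pos (hord ▸ orderOf_dvd_of_pow_eq_one h3)
    have h5 : 2 ^ 2 ≤ 2 ^ (k + 2) := Nat.pow_le_pow_right two_pos (by omega)
    omega
  have hXD : X * D = -(D * X) := by
    have h1 : ∀ j, X * g ^ j = gi ^ j * X := fun j => by
      induction j with
      | zero => simp
      | succ j ih => rw [pow_succ, ← mul_assoc, ih, mul_assoc, hXg, ← mul_assoc, ← pow_succ]
    have h3 : gi ^ 2 ^ k = -D := by
      calc gi ^ 2 ^ k = gi ^ 2 ^ k * -(D * D) := by rw [hDD, neg_neg, mul_one]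
        _ = -((gi * g) ^ 2 ^ k * D) := by
          rw [hD, (show Commute gi g from hgig.trans hggi.symm).mul_pow, mul_neg, mul_assoc]
        _ = -D := by rw [hgig, one_pow, one_mul]
    rw [hD, h1, h3, neg_mul]
  set τ : F := g 0 0 + g 1 1 with hτ
  have hgi' : gi = τ • 1 - g := by
    rw [hgi, Matrix.SpecialLinearGroup.coe_inv, adjugate_fin_two, hτ, hg]
    ext i j
    fin_cases i <;> fin_cases j <;> simp
  clear_value τ
  set r : Matrix (Fin 2) (Fin 2) F := 1 + g with hr
  set r' : Matrix (Fin 2) (Fin 2) F := 1 + gi with hr'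
  have hrr : r * r' = (2 + τ) • 1 := by
    rw [hr, hr', add_mul, mul_add, mul_add, one_mul, one_mul, mul_one, hggi, hgi', add_smul, two_smul]
    abel
  have hτ2 : 2 + τ ≠ 0 := by
    intro h
    have hgg : g * g = -(g + g + 1) := by
      have h1 : gi = -1 - 1 - g := by
        rw [hgi', show τ = -1 + -1 by linear_combination h, add_smul, neg_smul, one_smul]; abel
      have h3 := hggi
      rw [h1, mul_sub, mul_sub, mul_neg, mul_one] at h3
      calc g * g = -g - g - (-g - g - g * g) := by abel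
        _ = -(g + g + 1) := by rw [h3]; abel
    have hpow : ∀ j : ℕ, g ^ j = ((-1 : F) ^ j) • (1 - (j : F) • (g + 1)) := fun j => by
      induction j with
      | zero => simp
      | succ j ih =>
        have hN : (g + 1) * g = -(g + 1) := by rw [add_mul, one_mul, hgg]; abel
        rw [pow_succ, ih, Matrix.smul_mul, sub_mul, one_mul, Matrix.smul_mul, hN, pow_succ, mul_smul,
          neg_one_smul, smul_neg, Nat.cast_succ, add_smul, one_smul]
        congr 1
        abel
    have h1 := hpow (2 ^ (k + 2))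
    rw [← hord, hg, ← Matrix.SpecialLinearGroup.coe_pow, pow_orderOf_eq_one, Matrix.SpecialLinearGroup.coe_one, hord,
      Even.neg_one_pow (Nat.even_pow.2 ⟨even_two, by omega⟩), one_smul, eq_comm, sub_eq_self, ← hg,
      Nat.cast_pow, Nat.cast_ofNat] at h1
    have h4 : g + 1 = 0 := (smul_eq_zero.1 h1).resolve_left (pow_ne_zero _ h2)
    apply hne
    rw [hgi', eq_neg_of_add_eq_zero_left h4, show τ = -1 + -1 by linear_combination h, add_smul,
      neg_smul, one_smul]
    abel
  have hdr : r.det = r'.det := by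
    rw [show r = g * r' by rw [hr, hr', mul_add, mul_one, hggi, add_comm], det_mul, hg, Aq.2, one_mul]
  have hdr0 : r.det ≠ 0 := by
    intro h
    have h1 := congrArg Matrix.det hrr
    rw [det_mul, h, zero_mul, det_smul, det_one, mul_one, Fintype.card_fin] at h1
    exact hτ2 (pow_eq_zero_iff (two_ne_zero) |>.1 h1.symm)
  have hdD : D.det = 1 := by rw [hD, det_pow, hg, Aq.2, one_pow]
  let rG : GL (Fin 2) F := GeneralLinearGroup.mkOfDetNeZero r hdr0
  let rG' : GL (Fin 2) F := GeneralLinearGroup.mkOfDetNeZero r' (hdr ▸ hdr0)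
  let DG : GL (Fin 2) F := GeneralLinearGroup.mkOfDetNeZero D (by rw [hdD]; exact one_ne_zero)
  let XG : GL (Fin 2) F := GeneralLinearGroup.mkOfDetNeZero X (by rw [hX, Xq.2]; exact one_ne_zero)
  let pa : detPair F := ⟨(rG, rG'), (mem_detPair _).2 hdr⟩
  let pb : detPair F := ⟨(rG', rG'), (mem_detPair _).2 rfl⟩
  let pi' : detPair F := ⟨(DG * XG, XG), (mem_detPair _).2 (by
    show (D * X).det = X.det
    rw [det_mul, hdD, one_mul])⟩
  let ps : detPair F := ⟨(XG, DG), (mem_detPair _).2 (by show X.det = D.det; rw [hdD, hX, Xq.2])⟩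
  -- images of equal pairs up to a scalar
  have key : ∀ (x y : detPair F) (t : F),
      ((x.1.1 : GL (Fin 2) F) : Matrix (Fin 2) (Fin 2) F) = t • ((y.1.1 : GL (Fin 2) F) : Matrix _ _ F) →
      ((x.1.2 : GL (Fin 2) F) : Matrix (Fin 2) (Fin 2) F) = t • ((y.1.2 : GL (Fin 2) F) : Matrix _ _ F) →
      pairHom x = pairHom y := by
    intro x y t h1' h2'
    rw [← mul_inv_eq_one, ← map_inv, ← map_mul, pairHom_eq_one_iff]
    refine ⟨t, ?_, ?_⟩
    · show ((x.1.1 * (y.1.1)⁻¹ : GL (Fin 2) F) : Matrix (Fin 2) (Fin 2) F) = _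
      rw [Units.val_mul, h1', Matrix.smul_mul, ← Units.val_mul, mul_inv_cancel, Units.val_one]
    · show ((x.1.2 * (y.1.2)⁻¹ : GL (Fin 2) F) : Matrix (Fin 2) (Fin 2) F) = _
      rw [Units.val_mul, h2', Matrix.smul_mul, ← Units.val_mul, mul_inv_cancel, Units.val_one]
  have hgc : Commute g gi := hggi.trans hgig.symm
  have hrc : Commute r r' := by
    rw [hr, hr']
    exact (((Commute.one_left _).add_left
      ((Commute.one_right _).add_right hgc)))
  have hrg : Commute r g := by rw [hr]; exact (Commute.one_left g).add_left (Commute.refl g)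
  have hr'g : Commute r' g := by rw [hr']; exact (Commute.one_left g).add_left hgc.symm
  have hrD : Commute r D := by rw [hD]; exact hrg.pow_right _
  have hr'D : Commute r' D := by rw [hD]; exact hr'g.pow_right _
  have hXr : X * r = r' * X := by rw [hr, hr', mul_add, add_mul, mul_one, one_mul, hXg]
  have hXr' : X * r' = r * X := by rw [hr, hr', mul_add, add_mul, mul_one, one_mul, hgX]
  have hrgr : r = g * r' := by rw [hr, hr', mul_add, mul_one, hggi, add_comm]
  have hgN : g ^ 2 ^ (k + 2) = 1 := by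
    rw [← hord, hg, ← Matrix.SpecialLinearGroup.coe_pow, pow_orderOf_eq_one, Matrix.SpecialLinearGroup.coe_one]
  have hrN : r ^ 2 ^ (k + 2) = r' ^ 2 ^ (k + 2) := by
    rw [hrgr, (hr'g.symm).mul_pow, hgN, one_mul]
  have hspan : ∀ j : ℕ, ∃ u v : F, r ^ j = u • 1 + v • g ∧ r' ^ j = u • 1 + v • gi := by
    intro j
    induction j with
    | zero => exact ⟨1, 0, by simp, by simp⟩
    | succ j ih =>
      obtain ⟨u, v, e1, e2⟩ := ih
      have hq : g * g = τ • g - 1 := by
        have h1 := hggi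
        rw [hgi', mul_sub, Matrix.mul_smul, mul_one, sub_eq_iff_eq_add] at h1
        rw [h1, add_sub_cancel_left]
      have hq' : gi * gi = τ • gi - 1 := by
        have h1 := hgig
        rw [show g = τ • 1 - gi by rw [hgi']; abel, mul_sub, Matrix.mul_smul, mul_one,
          sub_eq_iff_eq_add] at h1
        rw [h1, add_sub_cancel_left]
      refine ⟨u - v, u + v + v * τ, ?_, ?_⟩
      · rw [pow_succ, e1, hr, add_mul, mul_add, mul_add, mul_one, mul_one, Matrix.smul_mul,
          Matrix.smul_mul, one_mul, hq, smul_sub, sub_smul, add_smul, add_smul, mul_smul]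
        abel
      · rw [pow_succ, e2, hr', add_mul, mul_add, mul_add, mul_one, mul_one, Matrix.smul_mul,
          Matrix.smul_mul, one_mul, hq', smul_sub, sub_smul, add_smul, add_smul, mul_smul]
        abel
  have hscal : ∀ j : ℕ, r ^ j = r' ^ j → ∃ u : F, r ^ j = u • 1 ∧ r' ^ j = u • 1 := by
    intro j h
    obtain ⟨u, v, e1, e2⟩ := hspan j
    have h1 : v • g = v • gi := add_left_cancel (e1.symm.trans (h.trans e2))
    rw [← sub_eq_zero, ← smul_sub, smul_eq_zero, sub_eq_zero] at h1
    obtain rfl := h1.resolve_right hne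
    exact ⟨u, by rw [e1, zero_smul, add_zero], by rw [e2, zero_smul, add_zero]⟩
  obtain ⟨cN, hcN, hcN'⟩ := hscal _ hrN
  obtain ⟨S, ⟨Fr⟩⟩ := exists_frame_of_gens (n := k + 2) (by omega) (pairHom pa) (pairHom pb) (pairHom pi')
    (pairHom ps) (by
      rw [← map_pow, ← map_one (pairHom (F := F))]
      refine key _ _ cN ?_ ?_
      · show r ^ 2 ^ (k + 2) = cN • (1 : Matrix _ _ F); exact hcN
      · show r' ^ 2 ^ (k + 2) = cN • (1 : Matrix _ _ F); exact hcN') (by
      rw [← map_pow, ← map_one (pairHom (F := F))]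
      refine key _ _ cN ?_ ?_
      · show r' ^ 2 ^ (k + 2) = cN • (1 : Matrix _ _ F); exact hcN'
      · show r' ^ 2 ^ (k + 2) = cN • (1 : Matrix _ _ F); exact hcN') (by
      show pairHom pa * pairHom pb = pairHom pb * pairHom pa
      rw [← map_mul, ← map_mul]
      refine key _ _ 1 ?_ ?_
      · show r * r' = (1 : F) • (r' * r); rw [one_smul, hrc.eq]
      · show r' * r' = (1 : F) • (r' * r'); rw [one_smul]) (by
      rw [← map_mul, ← map_one (pairHom (F := F))]
      refine key _ _ (-1) ?_ ?_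
      · show D * X * (D * X) = (-1 : F) • (1 : Matrix _ _ F)
        rw [mul_assoc, ← mul_assoc X, hXD, neg_mul, mul_neg, mul_assoc, hXX', ← mul_assoc, hDD,
          neg_one_smul]
        simp
      · show X * X = (-1 : F) • (1 : Matrix _ _ F); rw [hXX', neg_one_smul]) (by
      rw [← map_mul, ← map_one (pairHom (F := F))]
      refine key _ _ (-1) ?_ ?_
      · show X * X = (-1 : F) • (1 : Matrix _ _ F); rw [hXX', neg_one_smul]
      · show D * D = (-1 : F) • (1 : Matrix _ _ F); rw [hDD, neg_one_smul]) (by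
      rw [← map_mul, ← map_mul]
      refine key _ _ (-1) ?_ ?_
      · show D * X * X = (-1 : F) • (X * (D * X))
        rw [← mul_assoc X, hXD, neg_mul, neg_one_smul, neg_neg]
      · show X * D = (-1 : F) • (D * X); rw [hXD, neg_one_smul]) (by
      rw [eq_inv_iff_mul_eq_one, mul_inv_eq_iff_eq_mul.2 (show pairHom pi' * pairHom pa =
          pairHom pb * (pairHom pb)⁻¹ * pairHom ⟨(rG', rG), (mem_detPair _).2 hdr.symm⟩ * pairHom pi' by
        rw [mul_inv_cancel, one_mul, ← map_mul, ← map_mul]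
        refine key _ _ 1 ?_ ?_
        · show D * X * r = (1 : F) • (r' * (D * X))
          rw [one_smul, mul_assoc, hXr, ← mul_assoc, ← hr'D.eq, mul_assoc]
        · show X * r' = (1 : F) • (r * X); rw [one_smul, hXr'])]
      rw [mul_inv_cancel, one_mul, ← map_mul, ← map_one (pairHom (F := F))]
      refine key _ _ (2 + τ) ?_ ?_
      · show r' * r = (2 + τ) • (1 : Matrix _ _ F); rw [← hrc.eq, hrr]
      · show r * r' = (2 + τ) • (1 : Matrix _ _ F); exact hrr) (by
      rw [eq_inv_iff_mul_eq_one, mul_inv_eq_iff_eq_mul.2 (show pairHom pi' * pairHom pb =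
          pairHom ⟨(rG, rG), (mem_detPair _).2 rfl⟩ * pairHom pi' by
        rw [← map_mul, ← map_mul]
        refine key _ _ 1 ?_ ?_
        · show D * X * r' = (1 : F) • (r * (D * X))
          rw [one_smul, mul_assoc, hXr', ← mul_assoc, ← hrD.eq, mul_assoc]
        · show X * r' = (1 : F) • (r * X); rw [one_smul, hXr'])]
      rw [← map_mul, ← map_one (pairHom (F := F))]
      refine key _ _ (2 + τ) ?_ ?_
      · show r * r' = (2 + τ) • (1 : Matrix _ _ F); exact hrr
      · show r * r' = (2 + τ) • (1 : Matrix _ _ F); exact hrr) (by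
      rw [mul_inv_eq_iff_eq_mul, ← map_mul, ← map_mul]
      refine key _ _ 1 ?_ ?_
      · show X * r = (1 : F) • (r' * X); rw [one_smul, hXr]
      · show D * r' = (1 : F) • (r' * D); rw [one_smul, hr'D.eq]) (by
      rw [mul_inv_eq_iff_eq_mul, ← map_mul, ← map_mul]
      refine key _ _ 1 ?_ ?_
      · show X * r' = (1 : F) • (r * X); rw [one_smul, hXr']
      · show D * r' = (1 : F) • (r' * D); rw [one_smul, hr'D.eq]) (by
      intro ka la u v hka hla h
      set W : detPair F := (bif u then pi' else 1) * (bif v then ps else 1) with hW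
      have hW' : pairHom (pa ^ ka * pb ^ la * W) = 1 := by
        rw [← h, hW, map_mul, map_mul, map_mul, map_pow, map_pow, ← mul_assoc]
        cases u <;> cases v <;> simp
      obtain ⟨t, ht1, ht2⟩ := (pairHom_eq_one_iff _).1 hW'
      have e1 : r ^ ka * r' ^ la * (((W.1.1 : GL (Fin 2) F)) : Matrix (Fin 2) (Fin 2) F) = t • 1 := ht1
      have e2 : r' ^ ka * r' ^ la * (((W.1.2 : GL (Fin 2) F)) : Matrix (Fin 2) (Fin 2) F) = t • 1 := ht2
      -- an element commuting with `g` up to a unit commutes with it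
      have hcomm : ∀ (R W' : Matrix (Fin 2) (Fin 2) F), Commute R g → R.det ≠ 0 → R * W' = t • 1 →
          W' * g = g * W' := by
        intro R W' hc hR he
        haveI := Matrix.invertibleOfIsUnitDet R (isUnit_iff_ne_zero.2 hR)
        refine (mul_right_injective_of_invertible (α := F) R) ?_
        show R * (W' * g) = R * (g * W')
        rw [← mul_assoc, he, Matrix.smul_mul, one_mul, ← mul_assoc, hc.eq, mul_assoc, he,
          Matrix.mul_smul, mul_one]
      have hd1 : (r ^ ka * r' ^ la).det ≠ 0 := by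
        rw [det_mul, det_pow, det_pow, ← hdr]; exact mul_ne_zero (pow_ne_zero _ hdr0) (pow_ne_zero _ hdr0)
      have hd2 : (r' ^ ka * r' ^ la).det ≠ 0 := by
        rw [det_mul, det_pow, det_pow, ← hdr]; exact mul_ne_zero (pow_ne_zero _ hdr0) (pow_ne_zero _ hdr0)
      have hbad : ∀ W' : Matrix (Fin 2) (Fin 2) F, W' * g = gi * W' → W'.det = 1 → W' * g ≠ g * W' := by
        intro W' hw hdw hc
        haveI := Matrix.invertibleOfIsUnitDet W' (isUnit_iff_ne_zero.2 (by rw [hdw]; exact one_ne_zero))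
        exact hne (mul_left_injective_of_invertible (α := F) W' (hc.symm.trans hw))
      have hDg : D * g = g * D := by rw [hD, ← pow_succ, ← pow_succ']
      cases u <;> cases v
      · simp only [hW, cond_false, mul_one] at e1 e2
        change r ^ ka * r' ^ la * (1 : Matrix (Fin 2) (Fin 2) F) = _ at e1
        change r' ^ ka * r' ^ la * (1 : Matrix (Fin 2) (Fin 2) F) = _ at e2
        rw [mul_one] at e1 e2
        have hinj : ∀ j : ℕ, r ^ j = r' ^ j → 2 ^ (k + 2) ∣ j := by
          intro j hj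
          rw [hrgr, hr'g.symm.mul_pow] at hj
          haveI := Matrix.invertibleOfIsUnitDet (r' ^ j)
            (isUnit_iff_ne_zero.2 (by rw [det_pow, ← hdr]; exact pow_ne_zero _ hdr0))
          have h1 : g ^ j = 1 := mul_left_injective_of_invertible (α := F) (r' ^ j)
            (hj.trans (one_mul _).symm)
          rw [← hord]
          exact orderOf_dvd_of_pow_eq_one (Subtype.ext (by
            rw [Matrix.SpecialLinearGroup.coe_pow, Matrix.SpecialLinearGroup.coe_one]; exact h1))
        haveI := Matrix.invertibleOfIsUnitDet (r' ^ la)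
          (isUnit_iff_ne_zero.2 (by rw [det_pow, ← hdr]; exact pow_ne_zero _ hdr0))
        have hk0 : 2 ^ (k + 2) ∣ ka :=
          hinj ka (mul_left_injective_of_invertible (α := F) (r' ^ la) (e1.trans e2.symm))
        have hl0 : 2 ^ (k + 2) ∣ ka + la := by
          refine hinj _ ?_
          haveI := Matrix.invertibleOfIsUnitDet X (isUnit_iff_ne_zero.2 (by rw [hX, Xq.2]; exact one_ne_zero))
          refine mul_left_injective_of_invertible (α := F) X ?_
          show r ^ (ka + la) * X = r' ^ (ka + la) * X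
          have hXp : ∀ j : ℕ, X * r' ^ j = r ^ j * X := fun j => by
            induction j with
            | zero => simp
            | succ j ih => rw [pow_succ, ← mul_assoc, ih, mul_assoc, hXr', ← mul_assoc, ← pow_succ]
          rw [← hXp, pow_add, e2, Matrix.mul_smul, mul_one, Matrix.smul_mul, one_mul]
        have hka0 := Nat.eq_zero_of_dvd_of_lt hk0 hka
        subst hka0
        rw [zero_add] at hl0
        exact ⟨rfl, Nat.eq_zero_of_dvd_of_lt hl0 hla, rfl, rfl⟩
      · exfalso
        have hw1 : ((W.1.1 : GL (Fin 2) F) : Matrix (Fin 2) (Fin 2) F) = X := by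
          simp [hW]; rfl
        rw [hw1] at e1
        exact hbad X hXg (by rw [hX, Xq.2])
          (hcomm _ X ((hrg.pow_left _).mul_left (hr'g.pow_left _)) hd1 e1)
      · exfalso
        have hw2 : ((W.1.2 : GL (Fin 2) F) : Matrix (Fin 2) (Fin 2) F) = X := by
          simp [hW]; rfl
        rw [hw2] at e2
        exact hbad X hXg (by rw [hX, Xq.2])
          (hcomm _ X ((hr'g.pow_left _).mul_left (hr'g.pow_left _)) hd2 e2)
      · exfalso
        have hw2 : ((W.1.2 : GL (Fin 2) F) : Matrix (Fin 2) (Fin 2) F) = X * D := by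
          simp [hW]; rfl
        rw [hw2] at e2
        exact hbad (X * D) (by rw [mul_assoc, hDg, ← mul_assoc, hXg, mul_assoc])
          (by rw [det_mul, hX, Xq.2, hdD, one_mul])
          (hcomm _ _ ((hr'g.pow_left _).mul_left (hr'g.pow_left _)) hd2 e2))
  have hSc : Nat.card S = 2 ^ (2 * (k + 2) + 2) := by
    haveI : NeZero (2 ^ (k + 2)) := ⟨by positivity⟩
    let f : A (k + 2) × Bool × Bool → S := fun x => ⟨Fr.el x.1 x.2.1 x.2.2, Fr.el_mem _ _ _⟩
    have hf : Function.Bijective f := by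
      constructor
      · rintro ⟨t, u, v⟩ ⟨t', u', v'⟩ e
        obtain ⟨rfl, rfl, rfl⟩ := Fr.inj _ _ _ _ _ _ (congrArg Subtype.val e)
        rfl
      · rintro ⟨y, hy⟩
        obtain ⟨t, u, v, rfl⟩ := (Fr.mem y).1 hy
        exact ⟨(t, u, v), rfl⟩
    rw [← Nat.card_congr (Equiv.ofBijective f hf)]
    simp [Nat.card_prod, Nat.card_eq_fintype_card, ZMod.card, pow_add, two_mul]
  obtain ⟨P, hP⟩ := (IsPGroup.of_card hSc).exists_le_sylow
  have hSP : S = (P : Subgroup (G2 F)) := Subgroup.eq_of_le_of_card_ge hP (by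
    rw [hSc, P.card_eq_multiplicity]
    refine Nat.pow_le_pow_right two_pos ((val_card_g2_le hodd).trans ?_)
    omega)
  subst hSP
  exact ⟨P, k + 2, ⟨Fr⟩⟩

/-- Coordinates pass along isomorphisms. -/
theorem Frame.transfer {L K : Type*} [Group L] [Group K] {n : ℕ} {P : Subgroup L} {S : Subgroup K}
    (D : Frame P n) (e : ↥P ≃* ↥S) : Nonempty (Frame S n) :=
  ⟨{ el := fun t u v => (e ⟨D.el t u v, D.el_mem t u v⟩ : K)
     two := D.two
     mul := fun t u v t' u' v' => by
       rw [← Subgroup.coe_mul, ← map_mul]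
       congr 2
       exact Subtype.ext (D.mul t u v t' u' v')
     inj := fun t u v t' u' v' h =>
       D.inj _ _ _ _ _ _ (congrArg Subtype.val (e.injective (Subtype.ext h)))
     mem := fun x => by
       constructor
       · intro hx
         obtain ⟨t, u, v, he⟩ := (D.mem _).1 (e.symm ⟨x, hx⟩).2
         refine ⟨t, u, v, ?_⟩
         rw [show (⟨D.el t u v, D.el_mem t u v⟩ : P) = e.symm ⟨x, hx⟩ from Subtype.ext he,
           MulEquiv.apply_symm_apply]
       · rintro ⟨t, u, v, rfl⟩
         exact (e _).2 }⟩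

theorem exists_frame_of_iso {G : Type*} [Group G] (hodd : Odd (Fintype.card F)) (S : Subgroup G)
    (P : Sylow 2 ↥(chevG2.group F)) (h : Nonempty (↥S ≃* ↥(P : Subgroup ↥(chevG2.group F)))) :
    ∃ n : ℕ, Nonempty (Frame S n) := by
  haveI : Fact (Nat.Prime 2) := ⟨Nat.prime_two⟩
  obtain ⟨e⟩ := h
  obtain ⟨f⟩ := H55.G2.nonempty_equiv_G2 (F := F) hodd
  obtain ⟨P', n, ⟨D⟩⟩ := exists_frame_g2 hodd
  let P'' : Sylow 2 (G2 F) := P.mapSurjective (f := f.toMonoidHom) f.surjective
  have e2 : ↥(P : Subgroup ↥(chevG2.group F)) ≃* ↥(P'' : Subgroup (G2 F)) :=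
    (P : Subgroup _).equivMapOfInjective f.toMonoidHom f.injective
  exact ⟨n, D.transfer ((P'.equiv P'').trans (e2.symm.trans e.symm))⟩

end H18.G2Type
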